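import Mathlib
import Cfsg.Prelude.Def_OddOrderLocal
import Cfsg.Prelude.Def_LieExceptional
import Cfsg.Agent.Lib.Solvable.Cores
import Cfsg.Agent.Lib.OddOrder.CNTheorem
import Cfsg.Agent.Lib.Recognition.SelfNormal.Main

/-!
Groups in which every centraliser is a TI-subset: the elementary consequences of the hypothesis.
-/

set_option autoImplicit false
set_option linter.style.haveILetI false

namespace CfsgLib.Recognition.TICentralizers

open Subgroup

variable {G : Type*} [Group G]

/-- Every element commutes with all of its conjugates. -/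
def CC (G : Type*) [Group G] : Prop := ∀ g y : G, Commute (g * y * g⁻¹) y

/-- All centralisers are TI-subsets. -/
def TI (G : Type*) [Group G] : Prop :=
  ∀ x : G, Cfsg.IsTISubset (centralizer ({x} : Set G) : Set G)

/-- The normaliser of the centraliser of `x`. -/
abbrev NC (x : G) : Subgroup G := normalizer ((centralizer ({x} : Set G) : Subgroup G) : Set G)

theorem mem_cent {x g : G} : g ∈ centralizer ({x} : Set G) ↔ Commute g x :=
  mem_centralizer_singleton_iff

theorem commute_conj_of_mem_NC {x g : G} (hg : g ∈ NC x) : Commute (g * x * g⁻¹) x :=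
  mem_cent.mp ((mem_normalizer_iff.mp hg x).mp (mem_cent.mpr (Commute.refl x)))

theorem mem_NC (h : TI G) {x y g : G} (hy : y ≠ 1) (h1 : Commute y x) (h2 : Commute (g * y * g⁻¹) x) :
    g ∈ NC x := by
  by_contra hg
  exact hy (h x g hg y (mem_cent.mpr h1) (mem_cent.mpr h2))

theorem centralizer_le_NC (h : TI G) {x y : G} (hy : y ≠ 1) (hxy : Commute y x) :
    centralizer ({y} : Set G) ≤ NC x := fun g hg => by
  refine mem_NC h hy hxy ?_
  rwa [(mem_cent.mp hg).eq, mul_inv_cancel_right]

theorem NC_le (h : TI G) {x y : G} (hx : x ≠ 1) (hxy : Commute x y) : NC x ≤ NC y := fun g hg => by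
  refine mem_NC h hx hxy ?_
  -- everything in the centraliser of `x` commutes with the conjugate of `x`
  have hy' : g⁻¹ * y * g⁻¹⁻¹ ∈ centralizer ({x} : Set G) :=
    (mem_normalizer_iff.mp (inv_mem hg) y).mp (mem_cent.mpr hxy.symm)
  rw [inv_inv] at hy'
  calc g * x * g⁻¹ * y = g * (x * (g⁻¹ * y * g)) * g⁻¹ := by group
    _ = g * ((g⁻¹ * y * g) * x) * g⁻¹ := by rw [(mem_cent.mp hy').eq]
    _ = y * (g * x * g⁻¹) := by group

theorem NC_eq (h : TI G) {x y : G} (hx : x ≠ 1) (hy : y ≠ 1) (hxy : Commute x y) : NC x = NC y :=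
  le_antisymm (NC_le h hx hxy) (NC_le h hy hxy.symm)

/-- An element commuting with all its conjugates lies in the Fitting subgroup. -/
theorem mem_fitting {x : G} (h : ∀ g : G, Commute (g * x * g⁻¹) x) : x ∈ Cfsg.fittingSubgroup G := by
  have hc : IsMulCommutative ↥(normalClosure ({x} : Set G)) := by
    refine Subgroup.isMulCommutative_closure ?_
    intro a ha b hb
    obtain ⟨a', ha', hA⟩ := Group.mem_conjugatesOfSet_iff.mp ha
    obtain ⟨b', hb', hB⟩ := Group.mem_conjugatesOfSet_iff.mp hb
    rw [Set.mem_singleton_iff.mp ha', isConj_iff] at hA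
    rw [Set.mem_singleton_iff.mp hb', isConj_iff] at hB
    obtain ⟨g, rfl⟩ := hA
    obtain ⟨k, rfl⟩ := hB
    calc g * x * g⁻¹ * (k * x * k⁻¹) = k * ((k⁻¹ * g) * x * (k⁻¹ * g)⁻¹ * x) * k⁻¹ := by group
      _ = k * (x * ((k⁻¹ * g) * x * (k⁻¹ * g)⁻¹)) * k⁻¹ := by rw [(h (k⁻¹ * g)).eq]
      _ = k * x * k⁻¹ * (g * x * g⁻¹) := by group
  haveI : Group.IsNilpotent ↥(normalClosure ({x} : Set G)) := by
    letI : CommGroup ↥(normalClosure ({x} : Set G)) :=
      { (inferInstance : Group ↥(normalClosure ({x} : Set G))) with mul_comm := hc.is_comm.comm }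
    infer_instance
  exact Solvable.Cores.le_fittingSubgroup inferInstance (subset_normalClosure (Set.mem_singleton x))

theorem CC.isNilpotent [Finite G] (h : CC G) : Group.IsNilpotent G :=
  Solvable.Cores.fittingSubgroup_eq_top_iff.mp
    (eq_top_iff.mpr fun x _ => mem_fitting fun g => h g x)

theorem CC.of_le {C H : Subgroup G} (hC : CC C) (hle : H ≤ C) : CC H := fun g y =>
  Subtype.ext (congrArg Subtype.val (hC ⟨g, hle g.2⟩ ⟨y, hle y.2⟩).eq :)

/-- In such a group elements of coprime orders commute. -/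
theorem CC.commute_of_coprime (h : CC G) {a b : G} (hab : (orderOf a).Coprime (orderOf b)) : Commute a b := by
  set c := a * b * a⁻¹ * b⁻¹ with hc
  have e1 : c = a * (b * a⁻¹ * b⁻¹) := by rw [hc]; group
  have h1 : c ^ orderOf a = 1 := by
    have hcom : Commute a (b * a⁻¹ * b⁻¹) := by
      have := (h b a).symm.inv_right
      rwa [_root_.mul_inv_rev, _root_.mul_inv_rev, inv_inv, ← mul_assoc] at this
    rw [e1, hcom.mul_pow, pow_orderOf_eq_one, one_mul, conj_pow, inv_pow, pow_orderOf_eq_one, inv_one,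
      mul_one, mul_inv_cancel]
  have h2 : c ^ orderOf b = 1 := by
    rw [hc, (h a b).inv_right.mul_pow, conj_pow, pow_orderOf_eq_one, mul_one, mul_inv_cancel, one_mul,
      inv_pow, pow_orderOf_eq_one, inv_one]
  have h3 : c = 1 := orderOf_eq_one_iff.mp
    (Nat.eq_one_of_dvd_coprimes hab (orderOf_dvd_of_pow_eq_one h1) (orderOf_dvd_of_pow_eq_one h2))
  exact mul_inv_eq_iff_eq_mul.mp (mul_inv_eq_one.mp h3)

theorem cc_centralizer (h : TI G) {x : G} (hx : x ≠ 1) : CC ↥(centralizer ({x} : Set G)) := fun g y => by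
  refine Subtype.ext ?_
  have hg : (g : G) ∈ NC (y : G) := by
    refine mem_NC h hx (mem_cent.mp y.2).symm ?_
    rw [(mem_cent.mp g.2).eq, mul_inv_cancel_right]
    exact (mem_cent.mp y.2).symm
  simpa using (commute_conj_of_mem_NC hg).eq

theorem isCNGroup [Finite G] (h : TI G) : Cfsg.IsCNGroup G := fun _ hx => (cc_centralizer h hx).isNilpotent

theorem isNilpotent_of_center [Finite G] (h : TI G) (hZ : center G ≠ ⊥) : Group.IsNilpotent G := by
  obtain ⟨z, hz, hz1⟩ := (Subgroup.bot_or_exists_ne_one _).resolve_left hZ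
  refine CC.isNilpotent fun g y => commute_conj_of_mem_NC (mem_NC h hz1 ?_ ?_)
  · exact (Subgroup.mem_center_iff.mp hz y).symm
  · rw [Subgroup.mem_center_iff.mp hz g, mul_inv_cancel_right]
    exact (Subgroup.mem_center_iff.mp hz y).symm

theorem TI.subgroup (h : TI G) (H : Subgroup G) : TI H := fun x g hg y hy hgy => by
  refine Subtype.ext (h (x : G) g (fun hg' => hg ?_) y ?_ ?_)
  · refine mem_normalizer_iff.mpr fun a => ?_
    have key := mem_normalizer_iff.mp hg' (a : G)
    simp only [mem_centralizer_singleton_iff, Subtype.ext_iff, Subgroup.coe_mul, Subgroup.coe_inv] at key ⊢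
    exact key
  · exact mem_cent.mpr (congrArg Subtype.val (mem_centralizer_singleton_iff.mp hy))
  · exact mem_cent.mpr (congrArg Subtype.val (mem_centralizer_singleton_iff.mp hgy))

/-- The centraliser of a non-identity element of the Fitting subgroup lies in it. -/
theorem centralizer_le_fitting [Finite G] (h : TI G) {v : G} (hv : v ∈ Cfsg.fittingSubgroup G) (hv1 : v ≠ 1) :
    centralizer ({v} : Set G) ≤ Cfsg.fittingSubgroup G := by
  set K := Cfsg.fittingSubgroup G
  haveI : Nontrivial K := (Subgroup.nontrivial_iff_ne_bot K).mpr fun e => hv1 (by rwa [e, mem_bot] at hv)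
  obtain ⟨c, hc, hc1⟩ := (Subgroup.bot_or_exists_ne_one (center K)).resolve_left
    (Group.IsNilpotent.center_ne_bot _)
  have hc1' : (c : G) ≠ 1 := fun e => hc1 (Subtype.ext e)
  have hK : ∀ w ∈ K, Commute w (c : G) := fun w hw =>
    congrArg Subtype.val (Subgroup.mem_center_iff.mp hc ⟨w, hw⟩)
  have htop : ∀ g : G, g ∈ NC (c : G) := fun g =>
    mem_NC h hc1' (Commute.refl _) (hK _ ((Solvable.Cores.fittingSubgroup_normal).conj_mem _ c.2 g))
  intro w hw
  by_cases hw1 : w = 1
  · rw [hw1]; exact one_mem _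
  refine mem_fitting fun g => commute_conj_of_mem_NC ?_
  rw [NC_eq h hw1 hv1 (mem_cent.mp hw), NC_eq h hv1 hc1' (hK v hv)]
  exact htop g

/-- A non-trivial solvable normal subgroup gives a non-trivial Fitting subgroup. -/
theorem fitting_ne_bot [Finite G] {M : Subgroup G} [hM : M.Normal] (hM1 : M ≠ ⊥) (hs : Group.IsSolvable M) :
    Cfsg.fittingSubgroup G ≠ ⊥ := by
  obtain ⟨A, -, hA1, hA, hn⟩ := SelfNormal.exists_abelian_char _ M le_rfl hM1 hs
  haveI : A.Normal := normalizer_eq_top_iff.mp (top_le_iff.mp (normalizer_eq_top (H := M) ▸ hn))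
  haveI : Group.IsNilpotent A := by
    letI : CommGroup A := { (inferInstance : Group A) with mul_comm := hA.is_comm.comm }
    infer_instance
  intro e
  exact hA1 (le_bot_iff.mp (e ▸ Solvable.Cores.le_fittingSubgroup inferInstance))

theorem even_card_of_fitting_bot [Finite G] (h : TI G) (hF : Cfsg.fittingSubgroup G = ⊥) [Nontrivial G] :
    Even (Nat.card G) := by
  by_contra hodd
  haveI := OddOrder.CNTheorem.isSolvable (Nat.not_even_iff_odd.mp hodd) (isCNGroup h)
  exact fitting_ne_bot (M := (⊤ : Subgroup G)) top_ne_bot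
    (Group.isSolvable_of_isSolvable_injective (f := (⊤ : Subgroup G).subtype) Subtype.val_injective) hF

end CfsgLib.Recognition.TICentralizers
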