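import Cfsg.Agent.Lib.Recognition.TICentralizers.Basic
import Cfsg.Agent.Lib.FrobRealize.FixedPointFree
import Cfsg.Agent.Lib.Coprime.SchurZassenhaus
import Cfsg.Agent.Lib.Solvable.FrattiniFitting
import Cfsg.Agent.S0039
import Cfsg.Agent.S0042

/-!
Groups with TI centralisers: Frobenius complements are centralised by a non-identity element and have the
asserted shape; a non-trivial proper Fitting subgroup gives a Frobenius group.
-/

set_option autoImplicit false
set_option linter.style.haveILetI false

namespace CfsgLib.Recognition.TICentralizers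

open Subgroup

variable {G : Type*} [Group G] [Finite G]

/-- A normal subgroup containing the centralisers of its non-identity elements is a Hall subgroup. -/
theorem coprime_index (K : Subgroup G) [K.Normal] (hK : ∀ v ∈ K, v ≠ 1 → centralizer ({v} : Set G) ≤ K) :
    (Nat.card K).Coprime K.index := by
  refine Nat.coprime_of_dvd fun p hp hd hi => ?_
  haveI := Fact.mk hp
  obtain ⟨x, hx⟩ := exists_prime_orderOf_dvd_card' p hd
  obtain ⟨P, hP⟩ := (IsPGroup.of_card (n := 1) (show Nat.card (zpowers (x : G)) = p ^ 1 by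
    rw [Nat.card_zpowers, Subgroup.orderOf_coe, hx, pow_one])).exists_le_sylow
  haveI := P.isPGroup'.isNilpotent
  have hne : K.subgroupOf (P : Subgroup G) ≠ ⊥ := by
    intro e
    have : (⟨x, hP (mem_zpowers _)⟩ : (P : Subgroup G)) ∈ K.subgroupOf (P : Subgroup G) :=
      mem_subgroupOf.mpr x.2
    rw [e, mem_bot, Subtype.ext_iff] at this
    simp at this
    rw [this, orderOf_one] at hx
    exact hp.one_lt.ne hx
  obtain ⟨v, hv, hv1⟩ := (Subgroup.bot_or_exists_ne_one _).resolve_left
    (Solvable.FrattiniFitting.inf_center_ne_bot _ hne)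
  have hle : (P : Subgroup G) ≤ K := fun s hs => hK v (mem_subgroupOf.mp hv.1) (fun e => hv1 (Subtype.ext e))
    (mem_cent.mpr (congrArg Subtype.val (Subgroup.mem_center_iff.mp hv.2 ⟨s, hs⟩)))
  exact P.not_dvd_index (hi.trans (index_dvd_of_le hle))

/-- A non-trivial proper Fitting subgroup gives a Frobenius group. -/
theorem exists_complement (h : TI G) (hb : Cfsg.fittingSubgroup G ≠ ⊥) (ht : Cfsg.fittingSubgroup G ≠ ⊤) :
    ∃ H : Subgroup G, Cfsg.IsFrobeniusComplement H := by
  set K := Cfsg.fittingSubgroup G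
  have hK : ∀ v ∈ K, v ≠ 1 → centralizer ({v} : Set G) ≤ K := fun v hv hv1 => centralizer_le_fitting h hv hv1
  obtain ⟨H, hH⟩ := exists_right_complement'_of_coprime (coprime_index K hK)
  have hH1 : H ≠ ⊥ := by
    rintro rfl
    exact ht (isComplement'_bot_right.mp hH)
  refine ⟨H, (Cfsg.Agent.S0039.result K H hH hb hH1).mpr fun a ha ha1 => (eq_bot_iff_forall _).mpr ?_⟩
  rintro v ⟨hvK, hvc⟩
  by_contra hv1
  exact ha1 (disjoint_def.mp hH.disjoint (hK v hvK hv1 (mem_cent.mpr (mem_cent.mp hvc).symm)) ha)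

/-- A non-trivial abelian subgroup with a fixed-point-free action of a complement. -/
theorem exists_abelian_kernel {H : Subgroup G} (hH : Cfsg.IsFrobeniusComplement H) :
    ∃ V : Subgroup G, IsMulCommutative V ∧ V ≠ ⊥ ∧ H ≤ normalizer (V : Set G) ∧
      ∀ a ∈ H, a ≠ 1 → V ⊓ centralizer {a} = ⊥ := by
  obtain ⟨N, hN, hN1, -, hfpf, -, hset⟩ := FrobRealize.FPF.exists_fpf_kernel hH
  obtain ⟨N', hset', -, hnil⟩ := Cfsg.Agent.S0042.result H hH
  obtain rfl : N' = N := SetLike.coe_injective (hset'.trans hset.symm)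
  haveI := hN
  haveI := hnil
  haveI : Nontrivial N' := (Subgroup.nontrivial_iff_ne_bot N').mpr hN1
  refine ⟨(center N').map N'.subtype, ?_, ?_, ?_, fun a ha ha1 => ?_⟩
  · refine SelfNormal.isMulCommutative_of ?_
    rintro _ ⟨a, ha, rfl⟩ _ ⟨b, -, rfl⟩
    exact congrArg Subtype.val (Subgroup.mem_center_iff.mp ha b).symm
  · rw [Ne, map_eq_bot_iff_of_injective _ N'.subtype_injective]
    exact Group.IsNilpotent.center_ne_bot _
  · rw [normalizer_eq_top]
    exact le_top
  · exact le_bot_iff.mp ((inf_le_inf_right _ (map_subtype_le _)).trans (hfpf a ha ha1).le)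

/-- A Frobenius complement is centralised by a non-identity element. -/
theorem exists_centralizing (h : TI G) {H : Subgroup G} (hH : Cfsg.IsFrobeniusComplement H) :
    ∃ c : G, c ≠ 1 ∧ H ≤ centralizer ({c} : Set G) := by
  rcases Nat.even_or_odd (Nat.card H) with he | ho
  · haveI := Fact.mk Nat.prime_two
    obtain ⟨z, hz⟩ := exists_prime_orderOf_dvd_card' (G := H) 2 he.two_dvd
    have hz1 : (z : G) ≠ 1 := fun e => by
      rw [OneMemClass.coe_eq_one.mp e, orderOf_one] at hz
      exact absurd hz (by norm_num)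
    have hz2 : (z : G) * z = 1 := congrArg Subtype.val
      (show z * z = 1 by rw [← pow_two, ← hz, pow_orderOf_eq_one])
    refine ⟨z, hz1, fun g hg => mem_cent.mpr ?_⟩
    have := FrobRealize.Kernel.eq_of_involution hH z.2 hz1 hz2 (w := g * z * g⁻¹)
      (mul_mem (mul_mem hg z.2) (inv_mem hg)) (by simpa using hz1)
      (by rw [show g * z * g⁻¹ * (g * z * g⁻¹) = g * ((z : G) * z) * g⁻¹ by group, hz2, mul_one, mul_inv_cancel])
    exact mul_inv_eq_iff_eq_mul.mp this
  · obtain ⟨V, hVc, hV1, hVH, hfpf⟩ := exists_abelian_kernel hH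
    haveI : IsZGroup H := ⟨fun p hp P => by
      haveI := Fact.mk hp
      rcases FrobRealize.FPF.sylow_cyclic_or_quaternion hV1 hVH hfpf P with hc | ⟨rfl, n, ⟨e⟩⟩
      · exact hc
      · exfalso
        haveI : NeZero (2 ^ n) := ⟨by positivity⟩
        have hd := Subgroup.card_subgroup_dvd_card (P : Subgroup H)
        rw [Nat.card_congr e.toEquiv, Nat.card_eq_fintype_card, QuaternionGroup.card] at hd
        exact (Nat.not_even_iff_odd.mpr ho) (even_iff_two_dvd.mpr ((Dvd.intro 2 (by norm_num)).trans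
          ((Dvd.intro _ rfl).trans hd)))⟩
    haveI : Nontrivial H := (Subgroup.nontrivial_iff_ne_bot H).mpr hH.1
    by_cases hZ : center H = ⊥
    swap
    · obtain ⟨c, hc, hc1⟩ := (Subgroup.bot_or_exists_ne_one _).resolve_left hZ
      exact ⟨c, fun e => hc1 (Subtype.ext e), fun g hg => mem_cent.mpr
        (congrArg Subtype.val (Subgroup.mem_center_iff.mp hc ⟨g, hg⟩))⟩
    exfalso
    set M := Cfsg.fittingSubgroup H with hM
    have hMb : M ≠ ⊥ := fitting_ne_bot (M := (⊤ : Subgroup H)) top_ne_bot inferInstance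
    have hMt : M ≠ ⊤ := fun e => by
      haveI := Solvable.Cores.fittingSubgroup_eq_top_iff.mp e
      exact Group.IsNilpotent.center_ne_bot H hZ
    have hcle : ∀ v ∈ M, v ≠ 1 → centralizer ({v} : Set H) ≤ M := fun v hv hv1 =>
      centralizer_le_fitting (h.subgroup H) hv hv1
    have hcop := coprime_index M hcle
    haveI : Nontrivial M := (Subgroup.nontrivial_iff_ne_bot M).mpr hMb
    haveI : IsCyclic M := inferInstance
    obtain ⟨p, hp, hpd⟩ := Nat.exists_prime_and_dvd (show Nat.card M ≠ 1 from fun e => hMb (card_eq_one.mp e))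
    obtain ⟨q, hq, hqd⟩ := Nat.exists_prime_and_dvd (show M.index ≠ 1 from fun e => hMt (index_eq_one.mp e))
    haveI := Fact.mk hp
    haveI := Fact.mk hq
    obtain ⟨z, hz⟩ := exists_prime_orderOf_dvd_card' p hpd
    obtain ⟨e, he⟩ := exists_prime_orderOf_dvd_card' (G := H) q (hqd.trans (index_dvd_card M))
    have hpq : p ≠ q := fun e => hp.one_lt.ne' (Nat.eq_one_of_dvd_coprimes hcop hpd (e ▸ hqd))
    set Z := zpowers (z : H) with hZ'
    have hZM : Z ≤ M := zpowers_le.mpr z.2
    have hzc : Nat.card Z = p := by rw [Nat.card_zpowers, Subgroup.orderOf_coe, hz]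
    have hZn : ∀ g : H, g ∈ normalizer (Z : Set H) := fun g => by
      refine Coprime.mem_normalizer_of_conj_map_le fun w hw => ?_
      obtain ⟨j, rfl⟩ := mem_zpowers_iff.mp hw
      rw [← conj_zpow]
      refine zpow_mem ?_ j
      have h' : zpowers (⟨g * z * g⁻¹, (Solvable.Cores.fittingSubgroup_normal).conj_mem _ z.2 g⟩ : M) = zpowers z := by
        refine SelfNormal.eq_of_card (m := p) ?_ (by rw [Nat.card_zpowers, hz])
        rw [Nat.card_zpowers, Subgroup.orderOf_mk]
        rw [show g * (z : H) * g⁻¹ = MulAut.conj g (z : H) from rfl, MulEquiv.orderOf_eq, Subgroup.orderOf_coe, hz]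
      obtain ⟨i, hi⟩ := mem_zpowers_iff.mp (h' ▸ mem_zpowers _ : _ ∈ zpowers z)
      exact mem_zpowers_iff.mpr ⟨i, congrArg Subtype.val hi⟩
    have hec : Nat.card (zpowers e) = q := by rw [Nat.card_zpowers, he]
    have hdis : Disjoint Z (zpowers e) := disjoint_of_coprime_natCard (by
      rw [hzc, hec]; exact (Nat.coprime_primes hp hq).mpr hpq)
    have hAcard : Nat.card ↥(Z ⊔ zpowers e) = p * q := by
      rw [Coprime.card_sup_of_le_normalizer (fun g _ => hZn g) hdis, hzc, hec]
    set A := (Z ⊔ zpowers e).map H.subtype with hA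
    have hAH : A ≤ H := map_subtype_le _
    have hAc : Nat.card A = p * q := by
      rw [hA, Subgroup.card_map_of_injective H.subtype_injective, hAcard]
    have hAcomm : IsMulCommutative A := by
      rcases lt_or_gt_of_ne hpq with hlt | hlt
      · exact FrobRealize.FPF.isMulCommutative_of_card_mul hV1 (hAH.trans hVH) (fun a ha => hfpf a (hAH ha)) hp hq hlt hAc
      · exact FrobRealize.FPF.isMulCommutative_of_card_mul hV1 (hAH.trans hVH) (fun a ha => hfpf a (hAH ha)) hq hp hlt
          (hAc.trans (mul_comm _ _))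
    have hcomm : Commute e (z : H) := Subtype.ext (SelfNormal.comm_of hAcomm
      (mem_map_of_mem H.subtype (mem_sup_right (mem_zpowers e)))
      (mem_map_of_mem H.subtype (mem_sup_left (mem_zpowers _))))
    have heM : e ∈ M := hcle z z.2 (fun e' => by
      rw [OneMemClass.coe_eq_one.mp e', orderOf_one] at hz
      exact hp.one_lt.ne hz) (mem_cent.mpr hcomm)
    exact hq.one_lt.ne' (Nat.eq_one_of_dvd_coprimes hcop (he ▸ Subgroup.orderOf_dvd_natCard M heM) hqd)

/-- A fixed-point-free group in which elements commute with their conjugates. -/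
theorem shape {H : Subgroup G} (h : TI G) (hH : Cfsg.IsFrobeniusComplement H) :
    IsCyclic H ∨ ∃ m : ℕ, Odd m ∧ Nonempty (H ≃* Multiplicative (ZMod m) × QuaternionGroup 2) := by
  obtain ⟨c, hc1, hc⟩ := exists_centralizing h hH
  have hcc : CC H := (cc_centralizer h hc1).of_le hc
  haveI := hcc.isNilpotent
  obtain ⟨V, -, hV1, hVH, hfpf⟩ := exists_abelian_kernel hH
  haveI := Fact.mk Nat.prime_two
  obtain ⟨P⟩ : Nonempty (Sylow 2 H) := inferInstance
  have hPn : (P : Subgroup H).Normal := inferInstance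
  haveI := Sylow.unique_of_normal P hPn
  have hodd : ∀ (p : ℕ) [Fact p.Prime], p ≠ 2 → ∀ R : Sylow p H, IsCyclic R := fun p _ hp R =>
    (FrobRealize.FPF.sylow_cyclic_or_quaternion hV1 hVH hfpf R).resolve_right fun e => hp e.1
  by_cases hP : IsCyclic P
  · left
    haveI : IsZGroup H := ⟨fun p hp R => by
      haveI := Fact.mk hp
      by_cases h2 : p = 2
      · subst h2
        rw [Subsingleton.elim R P]; exact hP
      · exact hodd p h2 R⟩
    infer_instance
  obtain ⟨-, n, ⟨e⟩⟩ := (FrobRealize.FPF.sylow_cyclic_or_quaternion hV1 hVH hfpf P).resolve_left hP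
  haveI : NeZero (2 ^ n) := ⟨by positivity⟩
  have hn0 : n ≠ 0 := by
    rintro rfl
    refine hP ?_
    haveI : IsCyclic (QuaternionGroup (2 ^ 0)) := by
      refine isCyclic_of_orderOf_eq_card (QuaternionGroup.xa 0) ?_
      rw [QuaternionGroup.orderOf_xa, Nat.card_eq_fintype_card, QuaternionGroup.card]
      norm_num
    exact isCyclic_of_surjective e.symm.toMonoidHom e.symm.surjective
  have hn1 : n = 1 := by
    by_contra hn1
    have hn2 : 2 ^ 2 ≤ 2 ^ n := Nat.pow_le_pow_right two_pos (by omega)
    have hccQ : CC (QuaternionGroup (2 ^ n)) := fun g y => by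
      have h1 := congrArg e (show (e.symm g) * e.symm y * (e.symm g)⁻¹ * e.symm y = e.symm y * (e.symm g * e.symm y * (e.symm g)⁻¹)
        from Subtype.ext (hcc (e.symm g : H) (e.symm y : H)).eq)
      simp at h1
      exact h1
    have h1 := (hccQ (QuaternionGroup.a 1) (QuaternionGroup.xa 0)).eq
    rw [show ((QuaternionGroup.a 1 : QuaternionGroup (2 ^ n)))⁻¹ = QuaternionGroup.a (-1) from rfl,
      QuaternionGroup.a_mul_xa, QuaternionGroup.xa_mul_a, QuaternionGroup.xa_mul_xa,
      QuaternionGroup.xa_mul_xa, QuaternionGroup.a.injEq] at h1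
    have h4 : ((4 : ℕ) : ZMod (2 * 2 ^ n)) = 0 := by
      push_cast
      linear_combination h1
    have h5 := Nat.le_of_dvd (by norm_num) ((ZMod.natCast_eq_zero_iff _ _).mp h4)
    omega
  subst hn1
  obtain ⟨M, hM⟩ := exists_right_complement'_of_coprime (N := (P : Subgroup H)) P.card_coprime_index
  have hMc : ¬ 2 ∣ Nat.card M := by
    rw [← hM.symm.index_eq_card]
    exact P.not_dvd_index
  haveI : IsZGroup M := ⟨fun p hp R => by
    haveI := Fact.mk hp
    by_cases h2 : p = 2
    · subst h2
      have : Subsingleton R := by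
        refine Finite.card_le_one_iff_subsingleton.mp ?_
        rw [R.card_eq_multiplicity, Nat.factorization_eq_zero_of_not_dvd hMc]
        norm_num
      exact isCyclic_of_subsingleton
    · obtain ⟨R', hR'⟩ := (R.isPGroup'.map M.subtype).exists_le_sylow
      haveI := hodd p h2 R'
      let eR := equivMapOfInjective (R : Subgroup M) M.subtype M.subtype_injective
      exact isCyclic_of_injective ((inclusion hR').comp eR.toMonoidHom)
        ((inclusion_injective hR').comp eR.injective)⟩
  haveI : IsCyclic M := inferInstance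
  have hcomm : ∀ (m : M) (s : (P : Subgroup H)), Commute (m : H) (s : H) := fun m s => by
    refine hcc.commute_of_coprime (Nat.Coprime.of_dvd (Subgroup.orderOf_dvd_natCard M m.2)
      (Subgroup.orderOf_dvd_natCard (P : Subgroup H) s.2) ?_)
    rw [← hM.symm.index_eq_card]
    exact P.card_coprime_index.symm
  let f := MonoidHom.noncommCoprod M.subtype (P : Subgroup H).subtype hcomm
  have hinj : Function.Injective f := (injective_iff_map_eq_one f).mpr fun x hx => by
    have hx' : (x.1 : H) * x.2 = 1 := hx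
    have hd := disjoint_def.mp hM.symm.disjoint x.1.2 (eq_inv_of_mul_eq_one_left hx' ▸ inv_mem x.2.2)
    rw [hd, one_mul] at hx'
    exact Prod.ext (Subtype.ext hd) (Subtype.ext hx')
  have hbij : Function.Bijective f := (Nat.bijective_iff_injective_and_card f).mpr
    ⟨hinj, by rw [Nat.card_prod, hM.symm.card_mul]⟩
  exact Or.inr ⟨Nat.card M, Nat.not_even_iff_odd.mp (fun h => hMc h.two_dvd),
    ⟨(MulEquiv.ofBijective f hbij).symm.trans (MulEquiv.prodCongr (zmodCyclicMulEquiv inferInstance).symm e)⟩⟩

end CfsgLib.Recognition.TICentralizers
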