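import Cfsg.Agent.Lib.Recognition.TICentralizers.Zassenhaus
import Cfsg.Agent.S2202

/-!
Groups in which every centraliser is a TI-subset are nilpotent, Frobenius or `PSL₂(2ⁿ)`.
-/

set_option autoImplicit false
set_option linter.style.haveILetI false
set_option backward.isDefEq.respectTransparency false

open Matrix
open scoped MatrixGroups

namespace CfsgLib.Recognition.TICentralizers

open Subgroup (centralizer)

variable {G : Type*} [Group G] [Finite G]

theorem Data.psl (D : Data G) (hNF : ¬ D.N ≤ D.F) :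
    ∃ n : ℕ, 2 ≤ n ∧ Nonempty (G ≃* Matrix.ProjectiveSpecialLinearGroup (Fin 2) (GaloisField 2 n)) := by
  classical
  haveI := Fact.mk Nat.prime_two
  have hF := D.comm_F hNF
  have hab : ∀ t : G, orderOf t = 2 → IsMulCommutative ↥(centralizer ({t} : Set G)) := by
    intro t ht
    obtain ⟨g, hg⟩ := D.exists_conj (v := t) (fun e => by simp [e] at ht)
      (by rw [← pow_two, ← ht, pow_orderOf_eq_one])
    refine SelfNormal.isMulCommutative_of fun a ha b hb => ?_
    have key : ∀ x ∈ centralizer ({t} : Set G), g⁻¹ * x * g ∈ D.F := fun x hx => by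
      refine D.mem_F.mpr ?_
      calc g⁻¹ * x * g * D.t = g⁻¹ * (x * (g * D.t * g⁻¹)) * g := by group
        _ = g⁻¹ * ((g * D.t * g⁻¹) * x) * g := by rw [hg, (mem_cent.mp hx).eq]
        _ = D.t * (g⁻¹ * x * g) := by group
    have h := SelfNormal.comm_of hF (key a ha) (key b hb)
    calc a * b = g * ((g⁻¹ * a * g) * (g⁻¹ * b * g)) * g⁻¹ := by group
      _ = b * a := by rw [h]; group
  have h4 : 4 ∣ Nat.card D.S := by
    have hk := D.three_le_k hNF
    have hO : D.Omega ≤ D.S := fun w hw => by
      by_cases hw1 : w = 1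
      · rw [hw1]; exact one_mem _
      · exact D.involution_mem (D.F_le hw.1) hw1 hw.2
    obtain ⟨j, hj⟩ := IsPGroup.iff_card.mp (D.S.isPGroup'.to_le hO)
    refine dvd_trans ?_ (Subgroup.card_dvd_of_le hO)
    rw [hj]
    rw [D.card_Omega] at hj
    have : 2 ≤ j := by
      by_contra hj2
      have : 2 ^ j ≤ 2 ^ 1 := Nat.pow_le_pow_right two_pos (by omega)
      omega
    exact pow_dvd_pow 2 this
  have heven : Even (Nat.card G) :=
    even_iff_two_dvd.mpr ((dvd_trans (by norm_num) h4).trans (Subgroup.card_subgroup_dvd_card _))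
  rcases Cfsg.Agent.S2202.result heven hab with hc | hn | ⟨E, _, _, A, _, _, hE, -, ⟨e⟩⟩
  · exfalso
    haveI := hc D.S
    cases nonempty_fintype D.S
    let i : D.Omega → {x : D.S // x ^ 2 = 1} := fun w => ⟨⟨w, by
      by_cases hw1 : (w : G) = 1
      · rw [hw1]; exact one_mem _
      · exact D.involution_mem (D.F_le w.2.1) hw1 w.2.2⟩, Subtype.ext (by rw [pow_two]; exact w.2.2)⟩
    have h1 := Nat.card_le_card_of_injective i fun a b e =>
      Subtype.ext (congrArg (fun x : {x : D.S // x ^ 2 = 1} => ((x : D.S) : G)) e)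
    have h2 : Nat.card {x : D.S // x ^ 2 = 1} ≤ 2 := by
      rw [Nat.card_eq_fintype_card, Fintype.card_subtype]
      exact IsCyclic.card_pow_eq_one_le (by norm_num)
    have := D.three_le_k hNF
    rw [D.card_Omega] at h1
    omega
  · exfalso
    haveI := hn D.S
    haveI := D.S.isPGroup'.isNilpotent
    refine D.t1 ?_
    have := Solvable.Cores.le_fittingSubgroup (N := (D.S : Subgroup G)) inferInstance D.tS
    rwa [D.fit, Subgroup.mem_bot] at this
  haveI := hE
  have hAtriv : ∀ a : A, a = 1 := by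
    intro a
    let j : A →* G := e.symm.toMonoidHom.comp (MonoidHom.inr SL(2, E) A)
    have hj : j a ∈ Cfsg.fittingSubgroup G := mem_fitting fun g => by
      have hz : ∀ g : G, Commute g (j a) := fun g => by
        refine e.injective ?_
        simp only [j, map_mul, MonoidHom.comp_apply, MulEquiv.coe_toMonoidHom, MulEquiv.apply_symm_apply]
        refine Prod.ext ?_ ?_
        · simp
        · simp [mul_comm]
      rw [(hz g).eq, mul_inv_cancel_right]
    rw [D.fit, Subgroup.mem_bot] at hj
    have := congrArg (fun x => (e x).2) hj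
    simpa [j] using this
  haveI : Subsingleton A := ⟨fun a b => by rw [hAtriv a, hAtriv b]⟩
  haveI : Unique A := uniqueOfSubsingleton 1
  let f : G ≃* SL(2, E) := e.trans MulEquiv.prodUnique
  obtain ⟨q, hq, m, -, hcard⟩ := FiniteField.card' E
  haveI := hq
  obtain rfl : q = 2 := CharP.eq E hq hE
  have hm2 : 2 ≤ (m : ℕ) := by
    by_contra hm
    have hm0 : 1 ≤ (m : ℕ) := m.2
    have h6 : Nat.card SL(2, E) = 6 := by
      rw [SelfNormal.card_sl_even hcard, show (m : ℕ) = 1 by omega]; norm_num
    have hd := h4.trans (Subgroup.card_subgroup_dvd_card (D.S : Subgroup G))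
    rw [Nat.card_congr f.toEquiv, h6] at hd
    omega
  refine ⟨m, hm2, ?_⟩
  haveI : Fintype (GaloisField 2 m) := Fintype.ofFinite _
  have hc : Fintype.card E = Fintype.card (GaloisField 2 m) := by
    rw [hcard, ← Nat.card_eq_fintype_card, GaloisField.card 2 m (by omega)]
  haveI : CharP (GaloisField 2 m) 2 := inferInstance
  exact ⟨f.trans ((SelfNormal.slEquiv (FiniteField.ringEquivOfCardEq hc)).trans
    (QuotientGroup.quotientBot.symm.trans (QuotientGroup.quotientMulEquivOfEq SelfNormal.center_sl_bot.symm)))⟩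

theorem main (h : ∀ x : G, Cfsg.IsTISubset (centralizer ({x} : Set G) : Set G)) :
    Group.IsNilpotent G ∨
    (∃ H : Subgroup G, Cfsg.IsFrobeniusComplement H ∧
      (IsCyclic H ∨ ∃ m : ℕ, Odd m ∧ Nonempty (H ≃* Multiplicative (ZMod m) × QuaternionGroup 2))) ∨
    (∃ n : ℕ, 2 ≤ n ∧ Nonempty (G ≃* Matrix.ProjectiveSpecialLinearGroup (Fin 2) (GaloisField 2 n))) := by
  by_cases hnil : Group.IsNilpotent G
  · exact Or.inl hnil
  refine Or.inr ?_
  by_cases hF : Cfsg.fittingSubgroup G = ⊥
  swap
  · obtain ⟨H, hH⟩ := exists_complement h hF fun e => hnil (Solvable.Cores.fittingSubgroup_eq_top_iff.mp e)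
    exact Or.inl ⟨H, hH, shape h hH⟩
  haveI : Nontrivial G := by
    by_contra hG
    haveI := not_nontrivial_iff_subsingleton.mp hG
    exact hnil inferInstance
  obtain ⟨D⟩ := exists_data h hF
  by_cases hNF : D.N ≤ D.F
  · exact Or.inl ⟨D.F, D.frobenius hNF, shape h (D.frobenius hNF)⟩
  · exact Or.inr (D.psl hNF)

end CfsgLib.Recognition.TICentralizers
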