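import Cfsg.Agent.Lib.Recognition.TICentralizers.Frobenius

/-!
Groups with TI centralisers and trivial Fitting subgroup: the centraliser of a central involution of a Sylow
2-subgroup, its normaliser, and the double coset decomposition.
-/

set_option autoImplicit false
set_option linter.style.haveILetI false

namespace CfsgLib.Recognition.TICentralizers

open Subgroup

/-- The set-up: TI centralisers, trivial Fitting subgroup, a central involution of a Sylow 2-subgroup. -/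
structure Data (G : Type*) [Group G] where
  ti : TI G
  fit : Cfsg.fittingSubgroup G = ⊥
  S : Sylow 2 G
  t : G
  t1 : t ≠ 1
  t2 : t * t = 1
  tS : t ∈ S
  tc : ∀ s ∈ S, Commute s t

variable {G : Type*} [Group G] [Finite G]

theorem exists_data [Nontrivial G] (h : TI G) (hF : Cfsg.fittingSubgroup G = ⊥) : Nonempty (Data G) := by
  haveI := Fact.mk Nat.prime_two
  obtain ⟨S⟩ : Nonempty (Sylow 2 G) := inferInstance
  have h2 : 2 ∣ Nat.card S := S.dvd_card_of_dvd_card (even_card_of_fitting_bot h hF).two_dvd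
  haveI : Nontrivial S := Finite.one_lt_card_iff_nontrivial.mp (lt_of_lt_of_le one_lt_two (Nat.le_of_dvd Nat.card_pos h2))
  haveI := S.isPGroup'.isNilpotent
  haveI : Nontrivial (center S) := (Subgroup.nontrivial_iff_ne_bot _).mpr (Group.IsNilpotent.center_ne_bot _)
  obtain ⟨n, hn, hc⟩ := (S.isPGroup'.to_subgroup (center S)).nontrivial_iff_card.mp inferInstance
  obtain ⟨z, hz⟩ := exists_prime_orderOf_dvd_card' (G := center S) 2 (hc ▸ dvd_pow_self 2 hn.ne')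
  have hz' : orderOf ((z : S) : G) = 2 := by rw [Subgroup.orderOf_coe, Subgroup.orderOf_coe, hz]
  exact ⟨⟨h, hF, S, ((z : S) : G), fun e => by rw [e, orderOf_one] at hz'; omega,
    by have := pow_orderOf_eq_one ((z : S) : G); rwa [hz', pow_two] at this, (z : S).2,
    fun s hs => congrArg Subtype.val (Subgroup.mem_center_iff.mp z.2 ⟨s, hs⟩)⟩⟩

namespace Data

variable (D : Data G)

/-- The centraliser of the involution. -/
def F : Subgroup G := centralizer ({D.t} : Set G)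

/-- Its normaliser. -/
def N : Subgroup G := NC D.t

theorem mem_F {g : G} : g ∈ D.F ↔ Commute g D.t := mem_cent

theorem t_mem : D.t ∈ D.F := D.mem_F.mpr (Commute.refl _)

theorem S_le : (D.S : Subgroup G) ≤ D.F := fun s hs => D.mem_F.mpr (D.tc s hs)

theorem F_le : D.F ≤ D.N := le_normalizer

theorem ccF : CC D.F := cc_centralizer D.ti D.t1

theorem conj_mem_F {n f : G} (hn : n ∈ D.N) (hf : f ∈ D.F) : n * f * n⁻¹ ∈ D.F :=
  (mem_normalizer_iff.mp hn f).mp hf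

theorem conj_inv_mem_F {n f : G} (hn : n ∈ D.N) (hf : f ∈ D.F) : n⁻¹ * f * n ∈ D.F := by
  simpa using D.conj_mem_F (inv_mem hn) hf

theorem F_ne_top : D.F ≠ ⊤ := by
  intro e
  refine D.t1 ?_
  have : D.t ∈ Cfsg.fittingSubgroup G := mem_fitting fun g => by
    have hg : Commute g D.t := D.mem_F.mp (e ▸ mem_top g)
    rw [hg.eq, mul_inv_cancel_right]
  rwa [D.fit, mem_bot] at this

theorem mem_S_of_F {x : G} (hx : x ∈ D.F) {j : ℕ} (hj : orderOf x = 2 ^ j) : x ∈ D.S := by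
  haveI := Fact.mk Nat.prime_two
  haveI := D.ccF.isNilpotent
  have hP : IsPGroup 2 (zpowers (⟨x, hx⟩ : D.F)) := IsPGroup.of_card (n := j) (by
    rw [Nat.card_zpowers, Subgroup.orderOf_mk, hj])
  obtain ⟨P, hP'⟩ := hP.exists_le_sylow
  haveI := Sylow.unique_of_normal (D.S.subtype D.S_le) (inferInstance : ((D.S.subtype D.S_le : Sylow 2 D.F) : Subgroup D.F).Normal)
  rw [Subsingleton.elim P (D.S.subtype D.S_le)] at hP'
  exact hP' (mem_zpowers _)

theorem conj_mem_S {n s : G} (hn : n ∈ D.N) (hs : s ∈ D.S) : n * s * n⁻¹ ∈ D.S := by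
  haveI := Fact.mk Nat.prime_two
  obtain ⟨j, hj⟩ := IsPGroup.iff_orderOf.mp D.S.isPGroup' ⟨s, hs⟩
  rw [Subgroup.orderOf_mk] at hj
  refine D.mem_S_of_F (D.conj_mem_F hn (D.S_le hs)) (j := j) ?_
  rw [show n * s * n⁻¹ = MulAut.conj n s from rfl, MulEquiv.orderOf_eq, hj]

theorem mem_S {x : G} (hx : x ∈ D.N) {j : ℕ} (hj : orderOf x = 2 ^ j) : x ∈ D.S := by
  haveI := Fact.mk Nat.prime_two
  have hSN : (D.S : Subgroup G) ≤ D.N := D.S_le.trans D.F_le
  have hn : ((D.S.subtype hSN : Sylow 2 D.N) : Subgroup D.N).Normal :=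
    ⟨fun s hs g => D.conj_mem_S g.2 hs⟩
  have hP : IsPGroup 2 (zpowers (⟨x, hx⟩ : D.N)) := IsPGroup.of_card (n := j) (by
    rw [Nat.card_zpowers, Subgroup.orderOf_mk, hj])
  obtain ⟨P, hP'⟩ := hP.exists_le_sylow
  haveI := Sylow.unique_of_normal (D.S.subtype hSN) hn
  rw [Subsingleton.elim P (D.S.subtype hSN)] at hP'
  exact hP' (mem_zpowers _)

theorem mem_N {y g : G} (hy : y ∈ D.F) (hy1 : y ≠ 1) (hg : g * y * g⁻¹ ∈ D.F) : g ∈ D.N :=
  mem_NC D.ti hy1 (D.mem_F.mp hy) (D.mem_F.mp hg)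

theorem NC_eq {y : G} (hy : y ∈ D.F) (hy1 : y ≠ 1) : NC y = D.N :=
  TICentralizers.NC_eq D.ti hy1 D.t1 (D.mem_F.mp hy)

theorem centralizer_le {y : G} (hy : y ∈ D.F) (hy1 : y ≠ 1) : centralizer ({y} : Set G) ≤ D.F := by
  intro w hw
  by_cases hw1 : w = 1
  · rw [hw1]; exact one_mem _
  have hN : NC w = D.N := (TICentralizers.NC_eq D.ti hw1 hy1 (mem_cent.mp hw)).trans (D.NC_eq hy hy1)
  have hwN : w ∈ D.N := hN ▸ le_normalizer (mem_cent.mpr (Commute.refl w))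
  obtain ⟨a, b, hb, hab⟩ := Nat.exists_eq_two_pow_mul_odd (orderOf_pos w).ne'
  refine SelfNormal.mem_of_pow_mem (m := 2 ^ a) (n := b) (Nat.Coprime.pow_left a hb.coprime_two_left) ?_ ?_
  · -- the odd part
    set u := w ^ 2 ^ a
    have hu : u ^ b = 1 := by rw [← pow_mul, ← hab, pow_orderOf_eq_one]
    have hc : ∀ n ∈ D.N, Commute (n * u * n⁻¹) u := fun n hn => by
      rw [← conj_pow]
      exact (commute_conj_of_mem_NC (hN.symm ▸ hn)).pow_pow _ _
    set c := u * D.t * u⁻¹ * D.t⁻¹ with hcdef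
    have e1 : c = u * (D.t * u⁻¹ * D.t⁻¹) := by rw [hcdef]; group
    have h1 : c ^ b = 1 := by
      have hcom : Commute u (D.t * u⁻¹ * D.t⁻¹) := by
        have := (hc D.t (D.F_le D.t_mem)).symm.inv_right
        rwa [_root_.mul_inv_rev, _root_.mul_inv_rev, inv_inv, ← mul_assoc] at this
      rw [e1, hcom.mul_pow, hu, one_mul, conj_pow, inv_pow, hu, inv_one, mul_one, mul_inv_cancel]
    have h2 : c ^ 2 = 1 := by
      have hcom : Commute (u * D.t * u⁻¹) D.t⁻¹ :=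
        (D.tc _ (D.conj_mem_S (pow_mem hwN _) D.tS)).inv_right
      rw [hcdef, hcom.mul_pow, conj_pow, inv_pow, pow_two, D.t2, mul_one, mul_inv_cancel, inv_one, mul_one]
    have h3 : c = 1 := orderOf_eq_one_iff.mp
      (Nat.eq_one_of_dvd_coprimes hb.coprime_two_right (orderOf_dvd_of_pow_eq_one h1) (orderOf_dvd_of_pow_eq_one h2))
    exact D.mem_F.mpr (mul_inv_eq_iff_eq_mul.mp (mul_inv_eq_one.mp h3))
  · obtain ⟨j, -, hj⟩ := (Nat.dvd_prime_pow Nat.prime_two).mp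
      (orderOf_dvd_of_pow_eq_one (x := w ^ b) (n := 2 ^ a) (by rw [← pow_mul, mul_comm, ← hab, pow_orderOf_eq_one]))
    exact D.S_le (D.mem_S (pow_mem hwN b) hj)

instance : (D.F.subgroupOf D.N).Normal := normal_subgroupOf_of_le_normalizer le_rfl

/-- The index of `F` in its normaliser. -/
noncomputable def k : ℕ := D.F.relIndex D.N

theorem coprime : (Nat.card D.F).Coprime D.k := by
  have h := coprime_index (D.F.subgroupOf D.N) fun v hv hv1 w hw =>
    mem_subgroupOf.mpr (D.centralizer_le (mem_subgroupOf.mp hv) (fun e => hv1 (Subtype.ext e))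
      (mem_cent.mpr (congrArg Subtype.val (mem_cent.mp hw).eq)))
  rwa [Nat.card_congr (subgroupOfEquivOfLe D.F_le).toEquiv] at h

theorem pow_k_mem {x : G} (hx : x ∈ D.N) : x ^ D.k ∈ D.F :=
  mem_subgroupOf.mp (Subgroup.pow_index_mem (D.F.subgroupOf D.N) (⟨x, hx⟩ : D.N))

theorem mem_F_of_pow {x : G} (hx : x ∈ D.N) (h : x ^ Nat.card D.F = 1) : x ∈ D.F :=
  SelfNormal.mem_of_pow_mem D.coprime (h ▸ one_mem _) (D.pow_k_mem hx)

theorem involution_mem {x : G} (hx : x ∈ D.N) (hx1 : x ≠ 1) (hx2 : x * x = 1) : x ∈ D.S := by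
  haveI := Fact.mk Nat.prime_two
  exact D.mem_S hx (j := 1) (by rw [pow_one, orderOf_eq_prime (by rwa [pow_two]) hx1])

theorem frobenius (hNF : D.N ≤ D.F) : Cfsg.IsFrobeniusComplement D.F := by
  refine ⟨fun e => D.t1 (by simpa [e] using D.t_mem), D.F_ne_top, fun g hg => (eq_bot_iff_forall _).mpr ?_⟩
  rintro y ⟨hy, hy'⟩
  by_contra hy1
  refine hg (hNF ?_)
  replace hy' : g⁻¹ * y * g ∈ D.F := FrobRealize.Kernel.mem_conj_smul.mp hy'
  have := D.mem_N hy hy1 (g := g⁻¹) (by rwa [inv_inv])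
  simpa using inv_mem this

theorem exists_outside : ∃ v : G, v ∉ D.N ∧ v ≠ 1 ∧ v * v = 1 := by
  haveI := Fact.mk Nat.prime_two
  by_contra hcon
  push Not at hcon
  have hle : normalClosure ({D.t} : Set G) ≤ D.S := by
    refine (closure_le _).mpr fun x hx => ?_
    obtain ⟨a, ha, hA⟩ := Group.mem_conjugatesOfSet_iff.mp hx
    rw [Set.mem_singleton_iff.mp ha, isConj_iff] at hA
    obtain ⟨g, rfl⟩ := hA
    have h1 : g * D.t * g⁻¹ ≠ 1 := by simpa using D.t1
    have h2 : g * D.t * g⁻¹ * (g * D.t * g⁻¹) = 1 := by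
      rw [show g * D.t * g⁻¹ * (g * D.t * g⁻¹) = g * (D.t * D.t) * g⁻¹ by group, D.t2, mul_one, mul_inv_cancel]
    refine D.involution_mem ?_ h1 h2
    by_contra hN
    exact hcon _ hN h1 h2
  haveI := (D.S.isPGroup'.to_le hle).isNilpotent
  refine D.t1 ?_
  have := Solvable.Cores.le_fittingSubgroup (N := normalClosure ({D.t} : Set G)) inferInstance
    (subset_normalClosure (Set.mem_singleton _))
  rwa [D.fit, mem_bot] at this

theorem conj_outside {v s : G} (hv : v ∉ D.N) (hv2 : v * v = 1) (hs : s ∈ D.N) (hs1 : s ≠ 1) (hs2 : s * s = 1) :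
    IsConj v s := by
  set r := v * s with hr
  have hvi : v⁻¹ = v := inv_eq_of_mul_eq_one_right hv2
  have hsi : s⁻¹ = s := inv_eq_of_mul_eq_one_right hs2
  have hvr : v * r * v⁻¹ = r⁻¹ := by rw [hr, _root_.mul_inv_rev, hsi, hvi, ← mul_assoc, hv2, one_mul]
  have hsr : s * r * s⁻¹ = r⁻¹ := by
    rw [hr, _root_.mul_inv_rev, hsi, hvi, mul_assoc, mul_assoc, hs2, mul_one]
  rcases Nat.even_or_odd' (orderOf r) with ⟨j, hj | hj⟩
  · exfalso
    have hj0 : j ≠ 0 := by have := orderOf_pos r; omega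
    have hz1 : r ^ j ≠ 1 := pow_ne_one_of_lt_orderOf hj0 (by omega)
    have hz : (r ^ j)⁻¹ = r ^ j := inv_eq_of_mul_eq_one_right (by
      rw [← pow_add, show j + j = orderOf r by omega, pow_orderOf_eq_one])
    have hcv : ∀ x : G, x * r * x⁻¹ = r⁻¹ → Commute x (r ^ j) := fun x hx => by
      have : x * r ^ j * x⁻¹ = r ^ j := by rw [← conj_pow, hx, inv_pow, hz]
      exact mul_inv_eq_iff_eq_mul.mp this
    have hzF : r ^ j ∈ D.F := D.centralizer_le (D.S_le (D.involution_mem hs hs1 hs2)) hs1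
      (mem_cent.mpr (hcv s hsr).symm)
    exact hv (D.F_le (D.centralizer_le hzF hz1 (mem_cent.mpr (hcv v hvr))))
  · refine isConj_iff.mpr ⟨r ^ j, ?_⟩
    have h1 : r ^ j * v = v * (r ^ j)⁻¹ := by
      rw [← inv_pow, ← hvr, conj_pow, hvi]
      rw [← mul_assoc, ← mul_assoc, hv2, one_mul]
    calc r ^ j * v * (r ^ j)⁻¹ = v * ((r ^ j)⁻¹ * (r ^ j)⁻¹) := by rw [h1, mul_assoc]
      _ = v * (r ^ (2 * j))⁻¹ := by rw [← _root_.mul_inv_rev, ← pow_add, two_mul]
      _ = v * r := by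
        have : r ^ (2 * j) * r = 1 := by rw [← pow_succ, ← hj, pow_orderOf_eq_one]
        rw [eq_inv_of_mul_eq_one_left this, inv_inv]
      _ = s := by rw [hr, ← mul_assoc, hv2, one_mul]

theorem exists_conj {v : G} (hv1 : v ≠ 1) (hv2 : v * v = 1) : ∃ g : G, g * D.t * g⁻¹ = v := by
  refine isConj_iff.mp ?_
  obtain ⟨u, hu, -, hu2⟩ := D.exists_outside
  by_cases hv : v ∈ D.N
  · exact (D.conj_outside hu hu2 (D.F_le D.t_mem) D.t1 D.t2).symm.trans (D.conj_outside hu hu2 hv hv1 hv2)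
  · exact (D.conj_outside hv hv2 (D.F_le D.t_mem) D.t1 D.t2).symm

theorem exists_conj_N {s : G} (hs : s ∈ D.N) (hs1 : s ≠ 1) (hs2 : s * s = 1) : ∃ n ∈ D.N, n * D.t * n⁻¹ = s := by
  obtain ⟨g, hg⟩ := D.exists_conj hs1 hs2
  exact ⟨g, D.mem_N D.t_mem D.t1 (hg ▸ D.S_le (D.involution_mem hs hs1 hs2)), hg⟩

theorem involution_central {s f : G} (hs : s ∈ D.N) (hs1 : s ≠ 1) (hs2 : s * s = 1) (hf : f ∈ D.F) : Commute f s := by
  obtain ⟨n, hn, rfl⟩ := D.exists_conj_N hs hs1 hs2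
  have := D.mem_F.mp (D.conj_inv_mem_F hn hf)
  calc f * (n * D.t * n⁻¹) = n * (n⁻¹ * f * n * D.t) * n⁻¹ := by group
    _ = n * (D.t * (n⁻¹ * f * n)) * n⁻¹ := by rw [this.eq]
    _ = n * D.t * n⁻¹ * f := by group

theorem conj_eq_iff (g h : G) : g * D.t * g⁻¹ = h * D.t * h⁻¹ ↔ g⁻¹ * h ∈ D.F := by
  rw [D.mem_F]
  constructor
  · intro e
    refine mul_inv_eq_iff_eq_mul.mp ?_
    calc g⁻¹ * h * D.t * (g⁻¹ * h)⁻¹ = g⁻¹ * (h * D.t * h⁻¹) * g := by group
      _ = D.t := by rw [← e]; group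
  · intro e
    have e' : g⁻¹ * h * D.t * (g⁻¹ * h)⁻¹ = D.t := by rw [e.eq, mul_inv_cancel_right]
    conv_lhs => rw [← e']
    group

theorem card_involutions : Nat.card {v : G // v ≠ 1 ∧ v * v = 1} = D.F.index := by
  rw [index_eq_card]
  refine (Nat.card_congr (Equiv.ofBijective (fun q : G ⧸ D.F => Quotient.liftOn' q
    (fun g => (⟨g * D.t * g⁻¹, by simpa using D.t1, by
      rw [show g * D.t * g⁻¹ * (g * D.t * g⁻¹) = g * (D.t * D.t) * g⁻¹ by group, D.t2, mul_one, mul_inv_cancel]⟩ :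
      {v : G // v ≠ 1 ∧ v * v = 1})) fun g h e => Subtype.ext
        ((D.conj_eq_iff g h).mpr (QuotientGroup.leftRel_apply.mp e))) ⟨?_, ?_⟩)).symm
  · intro a b
    induction a using QuotientGroup.induction_on with
    | H g =>
      induction b using QuotientGroup.induction_on with
      | H h => exact fun e => QuotientGroup.eq.mpr ((D.conj_eq_iff g h).mp (congrArg Subtype.val e))
  · rintro ⟨v, hv1, hv2⟩
    obtain ⟨g, hg⟩ := D.exists_conj hv1 hv2
    exact ⟨g, Subtype.ext hg⟩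

theorem card_involutions_N : Nat.card {v : G // v ∈ D.N ∧ v ≠ 1 ∧ v * v = 1} = D.k := by
  rw [k, relIndex, index_eq_card]
  refine (Nat.card_congr (Equiv.ofBijective (fun q : D.N ⧸ D.F.subgroupOf D.N => Quotient.liftOn' q
    (fun g => (⟨g * D.t * (g : G)⁻¹, mul_mem (mul_mem g.2 (D.F_le D.t_mem)) (inv_mem g.2), by simpa using D.t1, by
      rw [show (g : G) * D.t * (g : G)⁻¹ * (g * D.t * (g : G)⁻¹) = g * (D.t * D.t) * (g : G)⁻¹ by group,
        D.t2, mul_one, mul_inv_cancel]⟩ :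
      {v : G // v ∈ D.N ∧ v ≠ 1 ∧ v * v = 1})) fun g h e => Subtype.ext
        ((D.conj_eq_iff g h).mpr (mem_subgroupOf.mp (QuotientGroup.leftRel_apply.mp e)))) ⟨?_, ?_⟩)).symm
  · intro a b
    induction a using QuotientGroup.induction_on with
    | H g =>
      induction b using QuotientGroup.induction_on with
      | H h => exact fun e => QuotientGroup.eq.mpr (mem_subgroupOf.mpr ((D.conj_eq_iff g h).mp (congrArg Subtype.val e)))
  · rintro ⟨v, hv, hv1, hv2⟩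
    obtain ⟨g, hgN, hg⟩ := D.exists_conj_N hv hv1 hv2
    exact ⟨(⟨g, hgN⟩ : D.N), Subtype.ext hg⟩

/-- The identity and the involutions of `F`. -/
def Omega : Subgroup G where
  carrier := {x | x ∈ D.F ∧ x * x = 1}
  one_mem' := ⟨one_mem _, mul_one _⟩
  inv_mem' := fun {x} hx => ⟨inv_mem hx.1, by rw [← _root_.mul_inv_rev, hx.2, inv_one]⟩
  mul_mem' := fun {x y} hx hy => ⟨mul_mem hx.1 hy.1, by
    by_cases hy1 : y = 1
    · simp [hy1, hx.2]
    have hc : Commute x y := D.involution_central (D.F_le hy.1) hy1 hy.2 hx.1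
    rw [hc.symm.mul_mul_mul_comm, hx.2, hy.2, one_mul]⟩

theorem card_Omega : Nat.card D.Omega = D.k + 1 := by
  classical
  have e : {x : D.Omega // x ≠ 1} ≃ {v : G // v ∈ D.N ∧ v ≠ 1 ∧ v * v = 1} :=
    { toFun := fun x => ⟨x.1, D.F_le x.1.2.1, fun e => x.2 (Subtype.ext e), x.1.2.2⟩
      invFun := fun v => ⟨⟨v.1, D.S_le (D.involution_mem v.2.1 v.2.2.1 v.2.2.2), v.2.2.2⟩,
        fun e => v.2.2.1 (congrArg Subtype.val e)⟩
      left_inv := fun x => rfl
      right_inv := fun v => rfl }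
  rw [← D.card_involutions_N, ← Nat.card_congr e, ← Nat.card_congr (Equiv.optionSubtypeNe (1 : D.Omega)),
    Finite.card_option]

theorem k_odd : Odd D.k := by
  haveI := Fact.mk Nat.prime_two
  have hP : IsPGroup 2 D.Omega := fun x => ⟨1, Subtype.ext (by rw [pow_one, pow_two]; exact x.2.2)⟩
  obtain ⟨j, hj⟩ := IsPGroup.iff_card.mp hP
  rw [D.card_Omega] at hj
  have : D.k ≠ 0 := Subgroup.index_ne_zero_of_finite (H := D.F.subgroupOf D.N)
  cases j with
  | zero => omega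
  | succ j => exact ⟨2 ^ j - 1, by rw [pow_succ] at hj; omega⟩

theorem three_le_k (hNF : ¬ D.N ≤ D.F) : 3 ≤ D.k := by
  obtain ⟨j, hj⟩ := D.k_odd
  have : D.k ≠ 1 := fun e => hNF (relIndex_eq_one.mp e)
  omega

/-- The elements of `N` fixing the coset `g N`. -/
def Dg (g : G) : Subgroup G := D.N ⊓ D.N.comap (MulAut.conj g⁻¹).toMonoidHom

theorem mem_Dg {g x : G} : x ∈ D.Dg g ↔ x ∈ D.N ∧ g⁻¹ * x * g ∈ D.N := by
  simp [Dg, Subgroup.mem_inf, MulAut.conj_apply]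

theorem Dg_congr {g h : G} (e : g⁻¹ * h ∈ D.N) : D.Dg g = D.Dg h := by
  ext x
  simp only [mem_Dg]
  refine and_congr_right fun _ => ⟨fun hx => ?_, fun hx => ?_⟩
  · have := mul_mem (mul_mem (inv_mem e) hx) e
    rwa [show (g⁻¹ * h)⁻¹ * (g⁻¹ * x * g) * (g⁻¹ * h) = h⁻¹ * x * h by group] at this
  · have := mul_mem (mul_mem e hx) (inv_mem e)
    rwa [show g⁻¹ * h * (h⁻¹ * x * h) * (g⁻¹ * h)⁻¹ = g⁻¹ * x * g by group] at this

theorem Dg_disjoint {g : G} (hg : g ∉ D.N) {x : G} (hx : x ∈ D.Dg g) (hxF : x ∈ D.F) : x = 1 := by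
  by_contra hx1
  obtain ⟨-, hx'⟩ := D.mem_Dg.mp hx
  have h1 : g⁻¹ * x * g ∈ D.F := D.mem_F_of_pow hx' (by
    have e : g⁻¹ * x * g = g⁻¹ * x * g⁻¹⁻¹ := by rw [inv_inv]
    have h := congrArg Subtype.val (pow_card_eq_one' (x := (⟨x, hxF⟩ : D.F)))
    simp only [Subgroup.coe_pow, Subgroup.coe_one] at h
    rw [e, conj_pow, h, mul_one, mul_inv_cancel])
  have := D.mem_N hxF hx1 (g := g⁻¹) (by rwa [inv_inv])
  exact hg (by simpa using inv_mem this)

theorem card_Dg_le {g : G} (hg : g ∉ D.N) : Nat.card (D.Dg g) ≤ D.k := by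
  rw [k, relIndex, index_eq_card]
  refine Nat.card_le_card_of_injective
    (fun x : D.Dg g => ((⟨x, (D.mem_Dg.mp x.2).1⟩ : D.N) : D.N ⧸ D.F.subgroupOf D.N)) fun a b e => ?_
  have hab : (a : G)⁻¹ * b ∈ D.F := mem_subgroupOf.mp (QuotientGroup.eq.mp e)
  exact Subtype.ext (inv_mul_eq_one.mp (D.Dg_disjoint hg (mul_mem (inv_mem a.2) b.2) hab))

theorem mul_mem_Dg {u v : G} (hu2 : u * u = 1) (hv2 : v * v = 1) (h : u⁻¹ * v ∈ D.N) :
    v * u ∈ D.Dg u ∧ u * (v * u) * u⁻¹ = (v * u)⁻¹ := by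
  have hui : u⁻¹ = u := inv_eq_of_mul_eq_one_right hu2
  have hvi : v⁻¹ = v := inv_eq_of_mul_eq_one_right hv2
  have h' := inv_mem h
  rw [_root_.mul_inv_rev, inv_inv, hvi] at h'
  refine ⟨D.mem_Dg.mpr ⟨h', ?_⟩, ?_⟩
  · rw [show u⁻¹ * (v * u) * u = u⁻¹ * v * (u * u) by group, hu2, mul_one]
    exact h
  · rw [_root_.mul_inv_rev, hvi, mul_assoc u (v * u), mul_inv_cancel_right, hui]

/-- The counting argument: every coset other than `N` contains exactly `k` involutions. -/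
theorem exists_inverting {g : G} (hg : g ∉ D.N) :
    ∃ u : G, u * u = 1 ∧ g⁻¹ * u ∈ D.N ∧ Nat.card (D.Dg g) = D.k ∧ ∀ d ∈ D.Dg g, u * d * u⁻¹ = d⁻¹ := by
  classical
  cases nonempty_fintype G
  let I := {v : G // v ≠ 1 ∧ v * v = 1}
  let fib : G ⧸ D.N → Finset I := fun q => Finset.univ.filter fun v : I => ((v : G) : G ⧸ D.N) = q
  have hle : ∀ q : G ⧸ D.N, (fib q).card ≤ D.k := by
    intro q
    by_cases hq : q = ((1 : G) : G ⧸ D.N)
    · refine le_of_eq ?_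
      rw [← D.card_involutions_N, ← Nat.card_eq_finsetCard]
      refine Nat.card_congr ⟨fun v => ⟨v.1.1, ?_, v.1.2⟩,
        fun v => ⟨⟨v.1, v.2.2⟩, Finset.mem_filter.mpr ⟨Finset.mem_univ _, ?_⟩⟩, fun v => rfl, fun v => rfl⟩
      · have := QuotientGroup.eq.mp ((Finset.mem_filter.mp v.2).2.trans hq).symm
        simpa using this
      · rw [hq]
        exact (QuotientGroup.eq.mpr (by simpa using v.2.1)).symm
    · rcases (fib q).eq_empty_or_nonempty with h | ⟨u, hu⟩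
      · simp [h]
      have hu' := (Finset.mem_filter.mp hu).2
      have huN : (u : G) ∉ D.N := fun h => hq (by rw [← hu']; exact QuotientGroup.eq.mpr (by simpa using h))
      rw [← Nat.card_eq_finsetCard]
      refine le_trans (Nat.card_le_card_of_injective (fun v : fib q => (⟨v.1.1 * u, (D.mul_mem_Dg u.2.2 v.1.2.2
        (QuotientGroup.eq.mp (hu'.trans (Finset.mem_filter.mp v.2).2.symm))).1⟩ : D.Dg (u : G)))
        fun a b e => Subtype.ext (Subtype.ext (mul_right_cancel (congrArg Subtype.val e)))) (D.card_Dg_le huN)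
  have hsum : ∑ q, (fib q).card = ∑ _q : G ⧸ D.N, D.k := by
    rw [← Finset.card_eq_sum_card_fiberwise (fun v _ => Finset.mem_univ _), Finset.card_univ,
      ← Nat.card_eq_fintype_card, D.card_involutions, Finset.sum_const, Finset.card_univ,
      ← Nat.card_eq_fintype_card, smul_eq_mul, ← index_eq_card, ← relIndex_mul_index D.F_le, mul_comm]
    rfl
  have heq := (Finset.sum_eq_sum_iff_of_le fun q _ => hle q).mp hsum ((g : G ⧸ D.N)) (Finset.mem_univ _)
  have hk0 : 0 < D.k := Nat.pos_of_ne_zero (Subgroup.index_ne_zero_of_finite (H := D.F.subgroupOf D.N))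
  obtain ⟨u, hu⟩ := Finset.card_pos.mp (heq ▸ hk0)
  have hu' := (Finset.mem_filter.mp hu).2
  have hgu : g⁻¹ * (u : G) ∈ D.N := QuotientGroup.eq.mp hu'.symm
  have huN : (u : G) ∉ D.N := fun h => hg (by
    have := mul_mem h (inv_mem hgu)
    rwa [show (u : G) * (g⁻¹ * u)⁻¹ = g by group] at this)
  rw [D.Dg_congr hgu]
  have hmem : ∀ v : fib (g : G ⧸ D.N), ((v.1 : G) * u ∈ D.Dg (u : G)) ∧
      (u : G) * (v.1 * u) * (u : G)⁻¹ = ((v.1 : G) * u)⁻¹ := fun v => D.mul_mem_Dg u.2.2 v.1.2.2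
    (QuotientGroup.eq.mp (hu'.trans (Finset.mem_filter.mp v.2).2.symm))
  let f : fib (g : G ⧸ D.N) → D.Dg (u : G) := fun v => ⟨_, (hmem v).1⟩
  have hinj : Function.Injective f := fun a b e => Subtype.ext (Subtype.ext (mul_right_cancel (congrArg Subtype.val e)))
  have hcard : Nat.card (D.Dg (u : G)) = D.k := le_antisymm (D.card_Dg_le huN) (by
    rw [← heq, ← Nat.card_eq_finsetCard]
    exact Nat.card_le_card_of_injective f hinj)
  refine ⟨u, u.2.2, hgu, hcard, fun d hd => ?_⟩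
  obtain ⟨v, hv⟩ := ((Nat.bijective_iff_injective_and_card f).mpr
    ⟨hinj, by rw [Nat.card_eq_finsetCard, heq, hcard]⟩).2 ⟨d, hd⟩
  rw [← show (v.1 : G) * u = d from congrArg Subtype.val hv]
  exact (hmem v).2

theorem card_Dg {g : G} (hg : g ∉ D.N) : Nat.card (D.Dg g) = D.k := by
  obtain ⟨u, -, -, h, -⟩ := D.exists_inverting hg
  exact h

theorem Dg_comm {g : G} (hg : g ∉ D.N) {a b : G} (ha : a ∈ D.Dg g) (hb : b ∈ D.Dg g) : Commute a b := by
  obtain ⟨u, -, -, -, h⟩ := D.exists_inverting hg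
  have h1 := h _ (mul_mem ha hb)
  rw [show u * (a * b) * u⁻¹ = (u * a * u⁻¹) * (u * b * u⁻¹) by group, h a ha, h b hb, ← _root_.mul_inv_rev] at h1
  exact (inv_injective h1).symm

theorem sup_Dg {g : G} (hg : g ∉ D.N) : D.F ⊔ D.Dg g = D.N := by
  have hle : D.Dg g ≤ D.N := fun x hx => (D.mem_Dg.mp hx).1
  refine eq_of_le_of_card_ge (sup_le D.F_le hle) (le_of_eq ?_)
  rw [Coprime.card_sup_of_le_normalizer (N := D.F) (H := D.Dg g) (fun x hx => hle hx)
    (disjoint_def.mpr fun hF hD => D.Dg_disjoint hg hD hF), D.card_Dg hg, k,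
    Coprime.card_mul_relIndex' D.F_le]

theorem exists_decomp {g : G} (hg : g ∉ D.N) {n : G} (hn : n ∈ D.N) : ∃ f ∈ D.F, ∃ d ∈ D.Dg g, f * d = n := by
  rw [← D.sup_Dg hg] at hn
  exact (Coprime.mem_sup_of_le_normalizer (fun x hx => (D.mem_Dg.mp hx).1)).mp hn

/-- `N` permutes the cosets other than `N` transitively, already through `F`. -/
theorem exists_move (hNF : ¬ D.N ≤ D.F) {g h : G} (hg : g ∉ D.N) (hh : h ∉ D.N) : ∃ a ∈ D.F, (a * g)⁻¹ * h ∈ D.N := by
  haveI := D.ccF.isNilpotent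
  obtain ⟨a, ha, hconj⟩ := Coprime.exists_conj_eq_of_solvable (N := D.F) (H := D.Dg g) (K := D.Dg h)
    inferInstance (fun x hx => (D.mem_Dg.mp hx).1) (fun x hx => (D.mem_Dg.mp hx).1)
    (by rw [D.sup_Dg hh]; exact fun x hx => (D.mem_Dg.mp hx).1)
    (by rw [D.card_Dg hg, D.card_Dg hh]) (by rw [D.card_Dg hg]; exact D.coprime)
  refine ⟨a, ha, ?_⟩
  have haN := D.F_le ha
  have hag : a * g ∉ D.N := fun e => hg (by simpa using mul_mem (inv_mem haN) e)
  have hD : D.Dg (a * g) = D.Dg h := by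
    rw [← hconj]
    ext x
    rw [D.mem_Dg, Subgroup.mem_map]
    constructor
    · rintro ⟨hx, hx'⟩
      refine ⟨a⁻¹ * x * a, D.mem_Dg.mpr ⟨mul_mem (mul_mem (inv_mem haN) hx) haN, ?_⟩, by simp [mul_assoc]⟩
      rwa [show g⁻¹ * (a⁻¹ * x * a) * g = (a * g)⁻¹ * x * (a * g) by group]
    · rintro ⟨y, hy, rfl⟩
      obtain ⟨hy1, hy2⟩ := D.mem_Dg.mp hy
      refine ⟨mul_mem (mul_mem haN hy1) (inv_mem haN), ?_⟩
      rwa [show (a * g)⁻¹ * (MulAut.conj a).toMonoidHom y * (a * g) = g⁻¹ * y * g by simp [mul_assoc]]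
  obtain ⟨u, hu2, hu, -, hinv⟩ := D.exists_inverting hag
  obtain ⟨v, hv2, hv, -, hvinv⟩ := D.exists_inverting hh
  rw [hD] at hinv
  set w := u⁻¹ * v with hw
  suffices hwN : w ∈ D.N by
    have := mul_mem (mul_mem hu hwN) (inv_mem hv)
    rwa [hw, show (a * g)⁻¹ * u * (u⁻¹ * v) * (h⁻¹ * v)⁻¹ = (a * g)⁻¹ * h by group] at this
  by_contra hwN
  have hfix : ∀ d ∈ D.Dg h, w⁻¹ * d * w = d := fun d hd => by
    have h1 : v⁻¹ * (u * d * u⁻¹) * v = d := by
      rw [hinv d hd]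
      have h2 := hvinv d hd
      rw [← h2]; group
    rwa [hw, show (u⁻¹ * v)⁻¹ * d * (u⁻¹ * v) = v⁻¹ * (u * d * u⁻¹) * v by group]
  have hDw : D.Dg h = D.Dg w := by
    refine eq_of_le_of_card_ge (fun d hd => D.mem_Dg.mpr ⟨(D.mem_Dg.mp hd).1, ?_⟩) (by rw [D.card_Dg hh, D.card_Dg hwN])
    rw [hfix d hd]
    exact (D.mem_Dg.mp hd).1
  obtain ⟨x, hx2, hx, -, hxinv⟩ := D.exists_inverting hwN
  -- some non-trivial element of `Dg w` would be inverted by `N` modulo `F`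
  obtain ⟨d, hd, hd1⟩ := (Subgroup.bot_or_exists_ne_one (D.Dg h)).resolve_left (fun e => by
    have hk := D.card_Dg hh
    rw [e, card_bot] at hk
    have := D.three_le_k hNF
    omega)
  set m := w⁻¹ * x with hm
  have hmd : m⁻¹ * d * m = d⁻¹ := by
    rw [hm, show (w⁻¹ * x)⁻¹ * d * (w⁻¹ * x) = x⁻¹ * (w * d * w⁻¹) * x by group]
    have h1 : w * d * w⁻¹ = d := by
      conv_lhs => rw [← hfix d hd]
      group
    have h2 := hxinv d (hDw ▸ hd)
    rw [h1, inv_eq_of_mul_eq_one_right hx2]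
    rwa [inv_eq_of_mul_eq_one_right hx2] at h2
  obtain ⟨f, hf, e, he, hfe⟩ := D.exists_decomp hh (n := m⁻¹) (inv_mem hx)
  have hdN := (D.mem_Dg.mp hd).1
  have hdd : d⁻¹ * d⁻¹ ∈ D.F := by
    have h1 : f * (e * d * e⁻¹) * f⁻¹ = d⁻¹ := by
      rw [← hmd, ← hfe]
      rw [show m = (f * e)⁻¹ by rw [hfe, inv_inv]]
      group
    rw [(D.Dg_comm hh he hd).eq, mul_inv_cancel_right] at h1
    have h3 : f * (d * f⁻¹ * d⁻¹) ∈ D.F := mul_mem hf (D.conj_mem_F hdN (inv_mem hf))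
    rwa [show f * (d * f⁻¹ * d⁻¹) = f * d * f⁻¹ * d⁻¹ by group, h1] at h3
  have hd2 : d⁻¹ * d⁻¹ = 1 := D.Dg_disjoint hh (mul_mem (inv_mem hd) (inv_mem hd)) hdd
  exact hd1 (D.Dg_disjoint hh hd (D.S_le (D.involution_mem hdN hd1 (by
    rw [← inv_inj, _root_.mul_inv_rev, hd2, inv_one]))))

end Data

end CfsgLib.Recognition.TICentralizers
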