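import Cfsg.Agent.Lib.Recognition.TICentralizers.Strong
import Cfsg.Agent.S0338
import Cfsg.Agent.S0885
import Cfsg.Agent.S0347

/-!
Groups with TI centralisers and trivial Fitting subgroup in which the centraliser of a central involution is
not self-normalising: a Zassenhaus group of odd degree with abelian kernel.
-/

set_option autoImplicit false
set_option linter.style.haveILetI false

namespace CfsgLib.Recognition.TICentralizers.Data

open Subgroup MulAction

variable {G : Type*} [Group G] [Finite G] (D : Data G)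

/-- The coset `N`. -/
abbrev base : G ⧸ D.N := ((1 : G) : G ⧸ D.N)

theorem stab_base : stabilizer G D.base = D.N := stabilizer_quotient D.N

theorem smul_coset_eq_iff (x g : G) : x • (g : G ⧸ D.N) = (g : G ⧸ D.N) ↔ g⁻¹ * x * g ∈ D.N := by
  show ((x * g : G) : G ⧸ D.N) = (g : G ⧸ D.N) ↔ _
  rw [QuotientGroup.eq, _root_.mul_inv_rev, ← inv_mem_iff (H := D.N), _root_.mul_inv_rev, _root_.mul_inv_rev,
    inv_inv, inv_inv, mul_assoc]

theorem coset_ne_base {g : G} (hg : g ∉ D.N) : (g : G ⧸ D.N) ≠ D.base := fun e =>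
  hg (by simpa using QuotientGroup.eq.mp e.symm)

theorem exists_rep {q : G ⧸ D.N} (hq : q ≠ D.base) : ∃ g : G, g ∉ D.N ∧ (g : G ⧸ D.N) = q := by
  induction q using QuotientGroup.induction_on with
  | H g => exact ⟨g, fun hg => hq (QuotientGroup.eq.mpr (by simpa using hg)), rfl⟩

theorem stab_inf {g : G} : stabilizer G D.base ⊓ stabilizer G (g : G ⧸ D.N) = D.Dg g := by
  ext x
  rw [mem_inf, D.stab_base, mem_stabilizer_iff, D.smul_coset_eq_iff, D.mem_Dg]

theorem smul_base_of_mem {f : G} (hf : f ∈ D.F) : f • D.base = D.base :=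
  mem_stabilizer_iff.mp (D.stab_base.symm ▸ D.F_le hf)

theorem fix_eq_base {f : G} (hf : f ∈ D.F) (hf1 : f ≠ 1) {q : G ⧸ D.N} (hq : f • q = q) : q = D.base := by
  by_contra hne
  obtain ⟨g, hg, rfl⟩ := D.exists_rep hne
  exact hf1 (D.Dg_disjoint hg (D.mem_Dg.mpr ⟨D.F_le hf, (D.smul_coset_eq_iff f g).mp hq⟩) hf)

theorem exists_smul (hNF : ¬ D.N ≤ D.F) {p q : G ⧸ D.N} (hp : p ≠ D.base) (hq : q ≠ D.base) :
    ∃ f ∈ D.F, f • p = q := by
  obtain ⟨g, hg, rfl⟩ := D.exists_rep hp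
  obtain ⟨h, hh, rfl⟩ := D.exists_rep hq
  obtain ⟨a, ha, e⟩ := D.exists_move hNF hg hh
  exact ⟨a, ha, QuotientGroup.eq.mpr e⟩

theorem unique_smul {f f' : G} (hf : f ∈ D.F) (hf' : f' ∈ D.F) {p : G ⧸ D.N} (hp : p ≠ D.base)
    (e : f • p = f' • p) : f = f' := by
  by_contra hne
  exact hp (D.fix_eq_base (mul_mem (inv_mem hf') hf) (fun h => hne (inv_mul_eq_one.mp h).symm)
    (by rw [mul_smul, e, inv_smul_smul]))

theorem card_points (hNF : ¬ D.N ≤ D.F) : Nat.card (G ⧸ D.N) = Nat.card D.F + 1 := by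
  classical
  obtain ⟨v, hv, -, -⟩ := D.exists_outside
  have hp := D.coset_ne_base hv
  rw [← Nat.card_congr (Equiv.optionSubtypeNe D.base), Finite.card_option]
  congr 1
  refine (Nat.card_congr (Equiv.ofBijective (fun f : D.F =>
    (⟨(f : G) • (v : G ⧸ D.N), fun e => hp (smul_left_cancel (f : G) (e.trans (D.smul_base_of_mem f.2).symm))⟩ :
      {q // q ≠ D.base})) ⟨fun a b e => Subtype.ext (D.unique_smul a.2 b.2 hp (congrArg Subtype.val e)), ?_⟩)).symm
  rintro ⟨q, hq⟩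
  obtain ⟨f, hf, e⟩ := D.exists_smul hNF hp hq
  exact ⟨⟨f, hf⟩, Subtype.ext e⟩

theorem two_dvd_F : 2 ∣ Nat.card D.F := by
  have h := Subgroup.orderOf_dvd_natCard D.F D.t_mem
  rwa [orderOf_eq_prime (by rw [pow_two]; exact D.t2) D.t1] at h

theorem odd_points (hNF : ¬ D.N ≤ D.F) : Odd (Nat.card (G ⧸ D.N)) := by
  rw [D.card_points hNF]
  exact (even_iff_two_dvd.mpr D.two_dvd_F).add_one

theorem isZassenhaus (hNF : ¬ D.N ≤ D.F) : Cfsg.IsZassenhausGroup G (G ⧸ D.N) := by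
  obtain ⟨v, hv, -, -⟩ := D.exists_outside
  have hk := D.three_le_k hNF
  have hpair : ∀ a b : G ⧸ D.N, a ≠ b → ∃ g : G, g • D.base = a ∧ g • (v : G ⧸ D.N) = b := by
    intro a b hab
    obtain ⟨x, rfl⟩ := exists_smul_eq G D.base a
    have hb : x⁻¹ • b ≠ D.base := fun e => hab (by rw [← e, smul_inv_smul])
    obtain ⟨f, hf, e⟩ := D.exists_smul hNF (D.coset_ne_base hv) hb
    exact ⟨x * f, by rw [mul_smul, D.smul_base_of_mem hf], by rw [mul_smul, e, smul_inv_smul]⟩
  refine ⟨⟨fun {a b} hab => ?_⟩, is_two_pretransitive_iff.mpr fun {a b c d} hab hcd => ?_, ?_, ?_, ?_⟩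
  · -- faithful
    set x := b⁻¹ * a with hx
    have hfix : ∀ (g : G) (q : G ⧸ D.N), (g * x * g⁻¹) • q = q := fun g q => by
      rw [mul_smul, mul_smul, hx, mul_smul, hab, inv_smul_smul, smul_inv_smul]
    have hmem : ∀ g : G, g * x * g⁻¹ ∈ D.Dg v := fun g => by
      rw [← D.stab_inf]
      exact ⟨hfix g _, hfix g _⟩
    have : x ∈ Cfsg.fittingSubgroup G := mem_fitting fun g => D.Dg_comm hv (hmem g) (by simpa using hmem 1)
    rw [D.fit, mem_bot, hx] at this
    exact (inv_mul_eq_one.mp this).symm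
  · obtain ⟨g, hga, hgb⟩ := hpair a b hab
    obtain ⟨g', hgc, hgd⟩ := hpair c d hcd
    exact ⟨g' * g⁻¹, by rw [← hga, mul_smul, inv_smul_smul, hgc], by rw [← hgb, mul_smul, inv_smul_smul, hgd]⟩
  · intro g a b c hab hbc hac ga gb gc
    obtain ⟨x, rfl⟩ := exists_smul_eq G D.base a
    suffices h : x⁻¹ * g * x = 1 by
      calc g = x * (x⁻¹ * g * x) * x⁻¹ := by group
        _ = 1 := by rw [h, mul_one, mul_inv_cancel]
    set g' := x⁻¹ * g * x with hg'
    have hfix : ∀ q : G ⧸ D.N, g • x • q = x • q → g' • q = q := fun q e => by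
      rw [hg', mul_smul, mul_smul, e, inv_smul_smul]
    have h0 := hfix _ ga
    have hb := hfix (x⁻¹ • b) (by rwa [smul_inv_smul])
    have hc := hfix (x⁻¹ • c) (by rwa [smul_inv_smul])
    have hb' : x⁻¹ • b ≠ D.base := fun e => hab (by rw [← e, smul_inv_smul])
    have hc' : x⁻¹ • c ≠ D.base := fun e => hac (by rw [← e, smul_inv_smul])
    obtain ⟨h, hh, hhb⟩ := D.exists_rep hb'
    obtain ⟨f, hf, hfc⟩ := D.exists_smul hNF hb' hc'
    rw [← hhb] at hb
    have hD : g' ∈ D.Dg h := by rw [← D.stab_inf]; exact ⟨h0, hb⟩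
    have hD' : f⁻¹ * g' * f ∈ D.Dg h := by
      rw [← D.stab_inf]
      refine ⟨?_, ?_⟩
      · show (f⁻¹ * g' * f) • D.base = D.base
        rw [mul_smul, D.smul_base_of_mem hf, mul_smul, h0, D.smul_base_of_mem (inv_mem hf)]
      · show (f⁻¹ * g' * f) • (h : G ⧸ D.N) = h
        rw [hhb, mul_smul, hfc, mul_smul, hc, ← hfc, inv_smul_smul]
    have hcom : g'⁻¹ * (f⁻¹ * g' * f) = 1 := by
      refine D.Dg_disjoint hh (mul_mem (inv_mem hD) hD') ?_
      rw [show g'⁻¹ * (f⁻¹ * g' * f) = (g'⁻¹ * f⁻¹ * g') * f by group]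
      exact mul_mem (D.conj_inv_mem_F (D.mem_Dg.mp hD).1 (inv_mem hf)) hf
    have hf1 : f ≠ 1 := by
      rintro rfl
      rw [one_smul] at hfc
      exact hbc (smul_left_cancel x⁻¹ hfc)
    refine D.Dg_disjoint hh hD (D.centralizer_le hf hf1 (mem_cent.mpr ?_))
    have := inv_mul_eq_one.mp hcom
    calc g' * f = f * (f⁻¹ * g' * f) := by group
      _ = f * g' := by rw [← this]
  · obtain ⟨d, hd, hd1⟩ := (Subgroup.bot_or_exists_ne_one (D.Dg v)).resolve_left fun e => by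
      have h := D.card_Dg hv
      rw [e, card_bot] at h
      omega
    rw [← D.stab_inf] at hd
    exact ⟨d, hd1, D.base, _, (D.coset_ne_base hv).symm, hd.1, hd.2⟩
  · intro M hM htr
    by_contra hcon
    push Not at hcon
    have hinj : Function.Injective fun m : M => (m : G) • D.base := fun a b e => by
      have h' : ((b⁻¹ * a : M) : G) • D.base = D.base := by
        rw [Subgroup.coe_mul, Subgroup.coe_inv, mul_smul, show (a : G) • D.base = (b : G) • D.base from e,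
          inv_smul_smul]
      exact (inv_mul_eq_one.mp (mem_bot.mp ((hcon D.base).le h'))).symm
    have hcard : Nat.card M = Nat.card (G ⧸ D.N) := Nat.card_congr (Equiv.ofBijective _
      ⟨hinj, fun q => htr.exists_smul_eq D.base q⟩)
    haveI := OddOrder.CNTheorem.isSolvable (hcard ▸ D.odd_points hNF) (isCNGroup (D.ti.subgroup M))
    refine fitting_ne_bot (M := M) (fun e => ?_) inferInstance D.fit
    rw [e, card_bot, D.card_points hNF] at hcard
    have := Nat.card_pos (α := D.F)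
    omega

/-- A fixed point of a non-trivial element of `Dg v` modulo the involutions is trivial there. -/
theorem mem_Omega_of_commutator {v d y : G} (hv : v ∉ D.N) (hd : d ∈ D.Dg v) (hd1 : d ≠ 1) (hy : y ∈ D.F)
    (hw : d * y * d⁻¹ * y⁻¹ ∈ D.Omega) : y ∈ D.Omega := by
  have hdN := (D.mem_Dg.mp hd).1
  have hconj : ∀ w ∈ D.Omega, d * w * d⁻¹ ∈ D.Omega := fun w hw => ⟨D.conj_mem_F hdN hw.1, by
    rw [show d * w * d⁻¹ * (d * w * d⁻¹) = d * (w * w) * d⁻¹ by group, hw.2, mul_one, mul_inv_cancel]⟩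
  have hcen : ∀ w ∈ D.Omega, ∀ f ∈ D.F, Commute f w := fun w hw f hf => by
    by_cases hw1 : w = 1
    · rw [hw1]; exact Commute.one_right f
    · exact D.involution_central (D.F_le hw.1) hw1 hw.2 hf
  have hfix : ∀ z ∈ D.F, d * z * d⁻¹ = z → z = 1 := fun z hz e => by
    by_contra hz1
    exact hd1 (D.Dg_disjoint hv hd (D.centralizer_le hz hz1 (mem_cent.mpr (mul_inv_eq_iff_eq_mul.mp e))))
  let c : D.Omega → D.Omega := fun w => ⟨d * w * d⁻¹ * (w : G)⁻¹, mul_mem (hconj _ w.2) (inv_mem w.2)⟩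
  have hinj : Function.Injective c := fun a b e => by
    have e' : d * (a : G) * d⁻¹ * (a : G)⁻¹ = d * (b : G) * d⁻¹ * (b : G)⁻¹ := congrArg Subtype.val e
    refine Subtype.ext (inv_mul_eq_one.mp (hfix _ (mul_mem (inv_mem a.2.1) b.2.1) ?_))
    calc d * ((a : G)⁻¹ * b) * d⁻¹ = (d * (a : G) * d⁻¹)⁻¹ * (d * (b : G) * d⁻¹) := by group
      _ = (d * (a : G) * d⁻¹ * (a : G)⁻¹ * a)⁻¹ * (d * (b : G) * d⁻¹ * (b : G)⁻¹ * b) := by group
      _ = (a : G)⁻¹ * b := by rw [e']; group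
  obtain ⟨w, hwc⟩ := (Finite.injective_iff_surjective.mp hinj) ⟨_, hw⟩
  have hwc' : d * (w : G) * d⁻¹ * (w : G)⁻¹ = d * y * d⁻¹ * y⁻¹ := congrArg Subtype.val hwc
  have := inv_mul_eq_one.mp (hfix _ (mul_mem (inv_mem w.2.1) hy) (by
    calc d * ((w : G)⁻¹ * y) * d⁻¹ = (d * (w : G) * d⁻¹ * (w : G)⁻¹ * w)⁻¹ * (d * y * d⁻¹ * y⁻¹ * y) := by group
      _ = (w : G)⁻¹ * y := by rw [hwc']; group))
  exact this ▸ w.2

/-- Suzuki groups do not occur: an `F` of order at most `(k + 1)²` is abelian. -/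
theorem comm_of_card_le (hNF : ¬ D.N ≤ D.F) (hcard : Nat.card D.F ≤ (D.k + 1) ^ 2) : IsMulCommutative D.F := by
  obtain ⟨v, hv, -, -⟩ := D.exists_outside
  have hcen : ∀ w ∈ D.Omega, ∀ f ∈ D.F, Commute f w := fun w hw f hf => by
    by_cases hw1 : w = 1
    · rw [hw1]; exact Commute.one_right f
    · exact D.involution_central (D.F_le hw.1) hw1 hw.2 hf
  by_cases hall : ∀ y ∈ D.F, y ∈ D.Omega
  · exact SelfNormal.isMulCommutative_of fun a ha b hb => hcen b (hall b hb) a ha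
  push Not at hall
  obtain ⟨y, hy, hyO⟩ := hall
  have hy1 : y ≠ 1 := fun e => hyO (e ▸ one_mem _)
  set X : Set G := (fun n => n * y * n⁻¹) '' (D.N : Set G) ∪ (D.Omega : Set G) with hX
  have hXF : X ⊆ D.F := by
    rintro _ (⟨n, hn, rfl⟩ | h)
    · exact D.conj_mem_F hn hy
    · exact h.1
  have hXc : ∀ a ∈ X, ∀ b ∈ X, a * b = b * a := by
    rintro a ha b hb
    rcases hb with ⟨m, hm, rfl⟩ | hb
    swap
    · exact hcen b hb a (hXF ha)
    rcases ha with ⟨n, hn, rfl⟩ | ha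
    swap
    · exact (hcen a ha _ (D.conj_mem_F hm hy)).symm
    have := (commute_conj_of_mem_NC (g := m⁻¹ * n) (x := y)
      (by rw [D.NC_eq hy hy1]; exact mul_mem (inv_mem hm) hn)).eq
    calc n * y * n⁻¹ * (m * y * m⁻¹) = m * (m⁻¹ * n * y * (m⁻¹ * n)⁻¹ * y) * m⁻¹ := by group
      _ = m * (y * (m⁻¹ * n * y * (m⁻¹ * n)⁻¹)) * m⁻¹ := by rw [this]
      _ = m * y * m⁻¹ * (n * y * n⁻¹) := by group
  have hA : IsMulCommutative (closure X) := Subgroup.isMulCommutative_closure hXc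
  have hle : closure X ≤ D.F := (closure_le _).mpr hXF
  let g1 : D.Dg v × D.Omega → closure X := fun p => ⟨(p.1 : G) * y * (p.1 : G)⁻¹ * p.2, mul_mem
      (subset_closure (Or.inl ⟨p.1, (D.mem_Dg.mp p.1.2).1, rfl⟩)) (subset_closure (Or.inr p.2.2))⟩
  let g2 : D.Omega → closure X := fun w => ⟨(w : G), subset_closure (Or.inr w.2)⟩
  let g : (D.Dg v × D.Omega) ⊕ D.Omega → closure X := fun s => s.elim g1 g2
  have hginj : Function.Injective g := by
    have hyc : ∀ d : D.Dg v, (d : G) * y * (d : G)⁻¹ ∉ D.Omega := fun d hd => hyO (by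
      refine ⟨hy, ?_⟩
      have := hd.2
      rwa [show (d : G) * y * (d : G)⁻¹ * ((d : G) * y * (d : G)⁻¹) = (d : G) * (y * y) * (d : G)⁻¹ by group,
        conj_eq_one_iff] at this)
    rintro (⟨d, w⟩ | w) (⟨d', w'⟩ | w') e
    · have e' : (d : G) * y * (d : G)⁻¹ * w = (d' : G) * y * (d' : G)⁻¹ * w' := congrArg Subtype.val e
      have hdd : d = d' := by
        by_contra hne
        refine hyO (D.mem_Omega_of_commutator hv (mul_mem (inv_mem d'.2) d.2)
          (fun h => hne (Subtype.ext (inv_mul_eq_one.mp h).symm)) hy ?_)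
        have e'' : (d : G) * y * (d : G)⁻¹ = (d' : G) * y * (d' : G)⁻¹ * (w' * (w : G)⁻¹) := by
          rw [← mul_assoc, ← e', mul_inv_cancel_right]
        have hd'N := (D.mem_Dg.mp d'.2).1
        rw [show (d' : G)⁻¹ * d * y * ((d' : G)⁻¹ * d)⁻¹ * y⁻¹ =
          (d' : G)⁻¹ * ((d : G) * y * (d : G)⁻¹) * d' * y⁻¹ by group, e'']
        set r := (w' : G) * (w : G)⁻¹ with hr
        have hrO : r ∈ D.Omega := mul_mem w'.2 (inv_mem w.2)
        have hr' : (d' : G)⁻¹ * r * d' ∈ D.Omega := ⟨D.conj_inv_mem_F hd'N hrO.1, by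
          rw [show (d' : G)⁻¹ * r * d' * ((d' : G)⁻¹ * r * d') = (d' : G)⁻¹ * (r * r) * d' by group, hrO.2,
            mul_one, inv_mul_cancel]⟩
        rw [show (d' : G)⁻¹ * ((d' : G) * y * (d' : G)⁻¹ * r) * d' * y⁻¹ = y * ((d' : G)⁻¹ * r * d') * y⁻¹ by group,
          (hcen _ hr' y hy).eq, mul_inv_cancel_right]
        exact hr'
      subst hdd
      simp only [Sum.inl.injEq, Prod.mk.injEq, true_and]
      exact Subtype.ext (mul_left_cancel e')
    · exfalso
      have e' : (d : G) * y * (d : G)⁻¹ * w = (w' : G) := congrArg Subtype.val e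
      exact hyc d (eq_mul_inv_of_mul_eq e' ▸ mul_mem w'.2 (inv_mem w.2))
    · exfalso
      have e' : (w : G) = (d' : G) * y * (d' : G)⁻¹ * w' := congrArg Subtype.val e
      exact hyc d' (eq_mul_inv_of_mul_eq e'.symm ▸ mul_mem w.2 (inv_mem w'.2))
    · exact congrArg Sum.inr (Subtype.ext (congrArg Subtype.val e :))
  have hge := Nat.card_le_card_of_injective g hginj
  rw [Nat.card_sum, Nat.card_prod, D.card_Dg hv, D.card_Omega] at hge
  have heq : closure X = D.F := eq_of_le_of_card_ge hle (hcard.trans (le_trans (le_of_eq (by ring)) hge))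
  exact heq ▸ hA

theorem two_pow_cancel {i j a b : ℕ} (ha : Odd a) (hb : Odd b) (h : 2 ^ i * a = 2 ^ j * b) :
    2 ^ i = 2 ^ j ∧ a = b := by
  have h1 : 2 ^ i ∣ 2 ^ j := ((Nat.Coprime.pow_left i hb.coprime_two_left)).dvd_of_dvd_mul_right (h ▸ Dvd.intro a rfl)
  have h2 : 2 ^ j ∣ 2 ^ i := ((Nat.Coprime.pow_left j ha.coprime_two_left)).dvd_of_dvd_mul_right (h ▸ Dvd.intro b rfl)
  have e := Nat.dvd_antisymm h1 h2
  exact ⟨e, Nat.eq_of_mul_eq_mul_left (Nat.two_pow_pos j) (e ▸ h)⟩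

/-- The kernel of the Zassenhaus group is abelian. -/
theorem comm_F (hNF : ¬ D.N ≤ D.F) : IsMulCommutative D.F := by
  classical
  letI : Fintype (G ⧸ D.N) := Fintype.ofFinite _
  obtain ⟨v, hv, -, -⟩ := D.exists_outside
  have hZ := D.isZassenhaus hNF
  have hpts : Fintype.card (G ⧸ D.N) = Nat.card D.F + 1 := by
    rw [← Nat.card_eq_fintype_card, D.card_points hNF]
  have hFs : D.F ≤ stabilizer G D.base := D.stab_base.symm ▸ D.F_le
  rcases Cfsg.Agent.S0885.result hZ (D.coset_ne_base hv).symm (Nat.card D.F) D.k hpts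
      (by rw [D.stab_inf, D.card_Dg hv]) D.k_odd D.F hFs hpts.symm
      (fun u hu hu1 c hc => D.fix_eq_base hu hu1 hc) with h | ⟨h2, hna, -⟩
  · refine D.comm_of_card_le hNF ?_
    have : Nat.card D.F ≤ 2 * D.k + 1 := by omega
    nlinarith
  · haveI : IsSimpleGroup G := Cfsg.Agent.S0338.result hZ (by rw [← Nat.card_eq_fintype_card]; exact D.odd_points hNF)
    have hn : (D.F.subgroupOf (stabilizer G D.base)).Normal := by
      rw [D.stab_base]
      infer_instance
    obtain ⟨-, m, -, hm⟩ := Cfsg.Agent.S0347.result hZ D.base D.F hFs hn h2 hna fun p q hp hq => by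
      obtain ⟨f, hf, e⟩ := D.exists_smul hNF hp hq
      exact ⟨⟨f, hf⟩, e, fun f' e' => Subtype.ext (D.unique_smul f'.2 hf hp (e'.trans e.symm))⟩
    haveI := Fact.mk Nat.prime_two
    obtain ⟨i, hi⟩ := IsPGroup.iff_card.mp h2
    set Q := 2 ^ (2 * m + 1) with hQ
    have hG : Nat.card G = (Nat.card D.F + 1) * (Nat.card D.F * D.k) := by
      rw [← D.card_points hNF, ← index_eq_card, mul_comm, k, Coprime.card_mul_relIndex' D.F_le,
        Subgroup.card_mul_index]
    have hQe : Even Q := ⟨2 ^ (2 * m), by rw [hQ, pow_succ]; ring⟩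
    have hQ1 : 1 ≤ Q := Nat.one_le_two_pow
    have hoddF : Odd (Nat.card D.F + 1) := D.card_points hNF ▸ D.odd_points hNF
    have hodd2 : Odd ((Q ^ 2 + 1) * (Q - 1)) :=
      ((hQe.pow_of_ne_zero two_ne_zero).add_one).mul (Nat.Even.sub_odd hQ1 hQe odd_one)
    obtain ⟨e1, e2⟩ := two_pow_cancel (i := i) (j := (2 * m + 1) * 2) (hoddF.mul D.k_odd) hodd2 (by
      rw [← hi, pow_mul, ← hQ, ← mul_assoc (Q ^ 2), ← hm, hG]
      ring)
    have e3 : D.k = Q - 1 := by
      rw [hi, e1, pow_mul, ← hQ] at e2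
      exact Nat.eq_of_mul_eq_mul_left (Nat.succ_pos _) e2
    refine D.comm_of_card_le hNF ?_
    rw [hi, e1, e3, Nat.sub_add_cancel hQ1, hQ, pow_mul 2 (2 * m + 1) 2]

end CfsgLib.Recognition.TICentralizers.Data
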